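import Cfsg.Agent.Lib.Perm.OddBase.Basic

/-!
# Bases of size two: alternating pairings with values in a field
-/

namespace CfsgLib.Perm.OddBase

universe u

/-- A nondegenerate alternating pairing with values in the units of a field, invariant under `G`
up to its zero set, without nonzero invariant isotropic subgroups. -/
structure IsPairing (G : Type*) {W K : Type*} [Group G] [AddCommGroup W] [DistribMulAction G W]
    [Field K] (β : W → W → K) : Prop where
  add_left : ∀ x y z, β (x + y) z = β x z * β y z
  add_right : ∀ x y z, β x (y + z) = β x y * β x z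
  self : ∀ x, β x x = 1
  nondeg : ∀ x, (∀ y, β x y = 1) → x = 0
  invariant : ∀ (g : G) x y, β x y = 1 → β (g • x) (g • y) = 1
  no_isotropic : ∀ U : AddSubgroup W, Invariant G W U → (∀ x ∈ U, ∀ y ∈ U, β x y = 1) → U = ⊥

theorem card_monoidHom_le (A K : Type*) [CommGroup A] [Finite A] [Field K] :
    Finite (A →* K) ∧ Nat.card (A →* K) ≤ Nat.card A := by
  classical
  haveI : Fintype A := Fintype.ofFinite A
  have h := linearIndependent_monoidHom A K
  haveI : Finite (A →* K) := h.finite
  haveI : Fintype (A →* K) := Fintype.ofFinite _
  refine ⟨inferInstance, ?_⟩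
  have := h.fintype_card_le_finrank
  rw [Module.finrank_fintype_fun_eq_card] at this
  rwa [Nat.card_eq_fintype_card, Nat.card_eq_fintype_card]

namespace IsPairing

variable {G W K : Type*} [Group G] [AddCommGroup W] [DistribMulAction G W] [Field K]
  {β : W → W → K} (h : IsPairing G β)

include h

theorem swap (x y : W) : β x y * β y x = 1 := by
  have := h.self (x + y)
  rwa [h.add_left, h.add_right, h.add_right, h.self, h.self, one_mul, mul_one] at this

theorem zero_right (x : W) : β x 0 = 1 := by
  have := h.add_right x x 0
  rw [add_zero, h.self, one_mul] at this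
  exact this.symm

theorem zero_left (x : W) : β 0 x = 1 := by
  have := h.add_left x 0 x
  rw [add_zero, h.self, one_mul] at this
  exact this.symm

theorem symm_one {x y : W} (he : β x y = 1) : β y x = 1 := by
  have := h.swap x y
  rwa [he, one_mul] at this

theorem nsmul_left (n : ℕ) (x y : W) : β (n • x) y = β x y ^ n := by
  induction n with
  | zero => rw [zero_smul, h.zero_left, pow_zero]
  | succ n ih => rw [succ_nsmul, h.add_left, ih, pow_succ]

theorem nsmul_right (n : ℕ) (x y : W) : β x (n • y) = β x y ^ n := by
  induction n with
  | zero => rw [zero_smul, h.zero_right, pow_zero]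
  | succ n ih => rw [succ_nsmul, h.add_right, ih, pow_succ]

theorem neg_left {x y : W} (he : β x y = 1) : β (-x) y = 1 := by
  have := h.add_left (-x) x y
  rw [neg_add_cancel, h.zero_left, he, mul_one] at this
  exact this.symm

/-- The orthogonal subgroup. -/
def perp (U : AddSubgroup W) : AddSubgroup W where
  carrier := {y | ∀ x ∈ U, β x y = 1}
  zero_mem' x _ := h.zero_right x
  add_mem' {a b} ha hb x hx := by rw [h.add_right, ha x hx, hb x hx, one_mul]
  neg_mem' {a} ha x hx := h.symm_one (h.neg_left (h.symm_one (ha x hx)))

theorem mem_perp {U : AddSubgroup W} {y : W} : y ∈ h.perp U ↔ ∀ x ∈ U, β x y = 1 := Iff.rfl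

theorem card_le_mul_perp [Finite W] (U : AddSubgroup W) :
    Nat.card W ≤ Nat.card U * Nat.card (h.perp U) := by
  rw [← AddSubgroup.card_mul_index (h.perp U), mul_comm (Nat.card U)]
  refine Nat.mul_le_mul_left _ ?_
  obtain ⟨hfin, hle⟩ := card_monoidHom_le (Multiplicative U) K
  let f : W ⧸ h.perp U → (Multiplicative U →* K) := Quotient.lift
    (fun y => { toFun := fun x => β ((Multiplicative.toAdd x : U) : W) y
                map_one' := h.zero_left y
                map_mul' := fun a b => h.add_left _ _ y })
    (fun a b hab => by
      replace hab := QuotientAddGroup.leftRel_apply.1 hab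
      refine MonoidHom.ext fun x => ?_
      have := hab (Multiplicative.toAdd x : U).1 (Multiplicative.toAdd x : U).2
      show β _ a = β _ b
      have e : β ((Multiplicative.toAdd x : U) : W) b =
          β ((Multiplicative.toAdd x : U) : W) a *
            β ((Multiplicative.toAdd x : U) : W) (-a + b) := by
        rw [← h.add_right, add_neg_cancel_left]
      rw [e, this, mul_one])
  have hf : Function.Injective f := by
    intro a b
    induction a using QuotientAddGroup.induction_on with
    | _ a =>
    induction b using QuotientAddGroup.induction_on with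
    | _ b =>
    intro hab
    refine QuotientAddGroup.eq.2 fun x hx => ?_
    have e : β x a = β x b := DFunLike.congr_fun hab (Multiplicative.ofAdd ⟨x, hx⟩)
    rw [h.add_right, ← e, ← h.add_right, neg_add_cancel, h.zero_right]
  calc (h.perp U).index = Nat.card (W ⧸ h.perp U) := rfl
    _ ≤ Nat.card (Multiplicative U →* K) := Nat.card_le_card_of_injective f hf
    _ ≤ Nat.card (Multiplicative U) := hle
    _ = Nat.card U := rfl

theorem isCR [Finite W] : IsCR G W := by
  intro U hU
  have hP : Invariant G W (h.perp U) := fun g y hy x hx => by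
    have := h.invariant g (g⁻¹ • x) y (hy _ (hU g⁻¹ x hx))
    rwa [smul_inv_smul] at this
  have hbot : U ⊓ h.perp U = ⊥ := h.no_isotropic _
    (fun g v hv => ⟨hU g v hv.1, hP g v hv.2⟩) fun x hx y hy => hy.2 x hx.1
  refine ⟨h.perp U, hP, hbot, AddSubgroup.eq_top_of_le_card _ ?_⟩
  refine (h.card_le_mul_perp U).trans ?_
  rw [← Nat.card_prod]
  refine Nat.card_le_card_of_injective
    (fun p => (⟨(p.1 : W) + p.2, AddSubgroup.add_mem_sup p.1.2 p.2.2⟩ :
      (U ⊔ h.perp U : AddSubgroup W))) ?_
  intro p q hpq
  exact AddSubgroup.add_injective_of_disjoint (disjoint_iff.2 hbot) (congrArg Subtype.val hpq)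

theorem card_square [Finite W] : ∃ e, Nat.card W = e * e := by
  classical
  set S : Set (AddSubgroup W) := {L | ∀ x ∈ L, ∀ y ∈ L, β x y = 1}
  obtain ⟨L, hL, hmax⟩ := Set.exists_max_image S (fun L => Nat.card L) (Set.toFinite _)
    ⟨⊥, fun x hx y _ => by rw [AddSubgroup.mem_bot.1 hx]; exact h.zero_left y⟩
  have hperp : h.perp L = L := by
    refine le_antisymm (fun x hx => ?_) fun y hy x hx => hL x hx y hy
    by_contra hxL
    have hM : (L ⊔ AddSubgroup.zmultiples x) ∈ S := by
      have key : ∀ a ∈ L ⊔ AddSubgroup.zmultiples x, (∀ b ∈ L, β b a = 1) ∧ β x a = 1 := by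
        intro a ha
        have hle : L ⊔ AddSubgroup.zmultiples x ≤ h.perp L ⊓ h.perp (AddSubgroup.zmultiples x) := by
          refine sup_le (fun b hb => ⟨fun c hc => hL c hc b hb, fun c hc => ?_⟩) ?_
          · obtain ⟨k, rfl⟩ := hc
            have hb' : b ∈ h.perp (AddSubgroup.zmultiples x) := by
              intro c hc
              obtain ⟨k, rfl⟩ := hc
              have : x ∈ h.perp (AddSubgroup.zmultiples b) := by
                intro c hc
                obtain ⟨m, rfl⟩ := hc
                exact hx _ (L.zsmul_mem hb m)
              have hxb : k • x ∈ h.perp (AddSubgroup.zmultiples b) :=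
                AddSubgroup.zsmul_mem _ this k
              exact h.symm_one (hxb b (AddSubgroup.mem_zmultiples b))
            exact hb' _ (AddSubgroup.zsmul_mem_zmultiples x k)
          · rw [AddSubgroup.zmultiples_le]
            refine ⟨hx, fun c hc => ?_⟩
            obtain ⟨k, rfl⟩ := hc
            rcases k with n | n
            · show β ((n : ℤ) • x) x = 1
              rw [natCast_zsmul, h.nsmul_left, h.self, one_pow]
            · show β (Int.negSucc n • x) x = 1
              rw [negSucc_zsmul]
              exact h.neg_left (by rw [h.nsmul_left, h.self, one_pow])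
        exact ⟨(hle ha).1, (hle ha).2 x (AddSubgroup.mem_zmultiples x)⟩
      intro a ha b hb
      have hb' := key b hb
      have : L ⊔ AddSubgroup.zmultiples x ≤
          h.perp (AddSubgroup.zmultiples b) := by
        refine sup_le (fun c hc d hd => ?_) ?_
        · obtain ⟨k, rfl⟩ := hd
          have : b ∈ h.perp (AddSubgroup.zmultiples c) := by
            intro d hd
            obtain ⟨m, rfl⟩ := hd
            exact hb'.1 _ (L.zsmul_mem hc m)
          exact h.symm_one (AddSubgroup.zsmul_mem _ this k c (AddSubgroup.mem_zmultiples c))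
        · rw [AddSubgroup.zmultiples_le]
          intro d hd
          obtain ⟨k, rfl⟩ := hd
          have : b ∈ h.perp (AddSubgroup.zmultiples x) := by
            intro d hd
            obtain ⟨m, rfl⟩ := hd
            rcases m with n | n
            · show β ((n : ℤ) • x) b = 1
              rw [natCast_zsmul, h.nsmul_left, hb'.2, one_pow]
            · show β (Int.negSucc n • x) b = 1
              rw [negSucc_zsmul]
              exact h.neg_left (by rw [h.nsmul_left, hb'.2, one_pow])
          exact h.symm_one (AddSubgroup.zsmul_mem _ this k x (AddSubgroup.mem_zmultiples x))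
      exact h.symm_one (this ha b (AddSubgroup.mem_zmultiples b))
    have hlt : Nat.card L < Nat.card (L ⊔ AddSubgroup.zmultiples x : AddSubgroup W) := by
      refine lt_of_le_of_ne (AddSubgroup.card_le_of_le le_sup_left) fun e => hxL ?_
      rw [AddSubgroup.eq_of_le_of_card_ge le_sup_left e.ge]
      exact le_sup_right (α := AddSubgroup W) (AddSubgroup.mem_zmultiples x)
    have := hmax _ hM
    omega
  refine ⟨Nat.card L, le_antisymm (by simpa [hperp] using h.card_le_mul_perp L) ?_⟩
  -- the map to the characters of the quotient
  obtain ⟨hfin, hle⟩ := card_monoidHom_le (Multiplicative (W ⧸ L)) K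
  let f : L → (Multiplicative (W ⧸ L) →* K) := fun l =>
    { toFun := fun q => Quotient.liftOn (Multiplicative.toAdd q) (fun w => β l w)
        (fun a b hab => by
          replace hab := QuotientAddGroup.leftRel_apply.1 hab
          show β l a = β l b
          have e : β (l : W) b = β (l : W) a * β (l : W) (-a + b) := by
            rw [← h.add_right, add_neg_cancel_left]
          rw [e, hL _ l.2 _ hab, mul_one])
      map_one' := h.zero_right _
      map_mul' := fun a b => by
        induction a using Multiplicative.rec with
        | _ a =>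
        induction b using Multiplicative.rec with
        | _ b =>
        induction a using QuotientAddGroup.induction_on with
        | _ a =>
        induction b using QuotientAddGroup.induction_on with
        | _ b => exact h.add_right _ a b }
  have hf : Function.Injective f := by
    intro a b hab
    refine Subtype.ext (sub_eq_zero.1 (h.nondeg _ fun w => ?_))
    have e : β (a : W) w = β (b : W) w :=
      DFunLike.congr_fun hab (Multiplicative.ofAdd (w : W ⧸ L))
    rw [sub_eq_add_neg, h.add_left, e, ← h.add_left, add_neg_cancel, h.zero_left]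
  have hidx : Nat.card L ≤ L.index := (Nat.card_le_card_of_injective f hf).trans hle
  rw [← L.card_mul_index]
  exact Nat.mul_le_mul_left _ hidx

theorem exists_repr [Finite W] (χ : Multiplicative W →* K) :
    ∃ x, ∀ y, χ (Multiplicative.ofAdd y) = β x y := by
  obtain ⟨hfin, hle⟩ := card_monoidHom_le (Multiplicative W) K
  let f : W → (Multiplicative W →* K) := fun x =>
    { toFun := fun y => β x (Multiplicative.toAdd y)
      map_one' := h.zero_right x
      map_mul' := fun a b => h.add_right x _ _ }
  have hf : Function.Injective f := by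
    intro a b hab
    refine sub_eq_zero.1 (h.nondeg _ fun w => ?_)
    have e : β a w = β b w := DFunLike.congr_fun hab (Multiplicative.ofAdd w)
    rw [sub_eq_add_neg, h.add_left, e, ← h.add_left, add_neg_cancel, h.zero_left]
  obtain ⟨x, rfl⟩ := (hf.bijective_of_nat_card_le hle).2 χ
  exact ⟨x, fun y => rfl⟩

theorem elementary [Finite W] {p n : ℕ} (hcard : Nat.card W = p ^ n) :
    ∀ x : W, p • x = 0 := by
  have step : ∀ j, (∀ x : W, p ^ (j + 2) • x = 0) → ∀ x : W, p ^ (j + 1) • x = 0 := by
    intro j hj
    set U : AddSubgroup W := (DistribMulAction.toAddMonoidHom W (p ^ (j + 1) : ℕ)).range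
      with hUdef
    have hU : U = ⊥ := by
      refine h.no_isotropic U ?_ ?_
      · rintro g _ ⟨x, rfl⟩
        exact ⟨g • x, (smul_comm g (p ^ (j + 1)) x).symm⟩
      · rintro _ ⟨x, rfl⟩ _ ⟨y, rfl⟩
        show β (p ^ (j + 1) • x) (p ^ (j + 1) • y) = 1
        rw [h.nsmul_left, ← pow_one (β x _), ← pow_mul, one_mul, ← h.nsmul_right, ← mul_smul,
          ← pow_add]
        have : p ^ (j + 1 + (j + 1)) • y = 0 := by
          rw [show j + 1 + (j + 1) = j + (j + 2) by omega, pow_add, mul_smul, hj, smul_zero]
        rw [this, h.zero_right]
    intro x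
    have : p ^ (j + 1) • x ∈ U := ⟨x, rfl⟩
    rwa [hU, AddSubgroup.mem_bot] at this
  have hdesc : ∀ j, (∀ x : W, p ^ (j + 1) • x = 0) → ∀ x : W, p • x = 0 := by
    intro j
    induction j with
    | zero => intro hj x; simpa using hj x
    | succ j ih => exact fun hj => ih (step j hj)
  refine hdesc n fun x => ?_
  rw [pow_succ', mul_smul, ← hcard, card_nsmul_eq_zero', smul_zero]

/-- The orthogonal subgroup is not larger than the index. -/
theorem card_mul_perp_le [Finite W] (X : AddSubgroup W) :
    Nat.card X * Nat.card (h.perp X) ≤ Nat.card W := by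
  rw [← AddSubgroup.card_mul_index (h.perp X), mul_comm (Nat.card X)]
  refine Nat.mul_le_mul_left _ ?_
  obtain ⟨hfin, hle⟩ := card_monoidHom_le (Multiplicative (W ⧸ h.perp X)) K
  let f : X → (Multiplicative (W ⧸ h.perp X) →* K) := fun l =>
    { toFun := fun q => Quotient.liftOn (Multiplicative.toAdd q) (fun w => β l w)
        (fun a b hab => by
          replace hab := QuotientAddGroup.leftRel_apply.1 hab
          show β l a = β l b
          have e : β (l : W) b = β (l : W) a * β (l : W) (-a + b) := by
            rw [← h.add_right, add_neg_cancel_left]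
          rw [e, hab _ l.2, mul_one])
      map_one' := h.zero_right _
      map_mul' := fun a b => by
        induction a using Multiplicative.rec with
        | _ a =>
        induction b using Multiplicative.rec with
        | _ b =>
        induction a using QuotientAddGroup.induction_on with
        | _ a =>
        induction b using QuotientAddGroup.induction_on with
        | _ b => exact h.add_right _ a b }
  refine (Nat.card_le_card_of_injective f fun a b hab => ?_).trans hle
  refine Subtype.ext (sub_eq_zero.1 (h.nondeg _ fun w => ?_))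
  have e : β (a : W) w = β (b : W) w :=
    DFunLike.congr_fun hab (Multiplicative.ofAdd (w : W ⧸ h.perp X))
  rw [sub_eq_add_neg, h.add_left, e, ← h.add_left, add_neg_cancel, h.zero_left]

theorem perp_perp [Finite W] (X : AddSubgroup W) : h.perp (h.perp X) = X := by
  have hle : X ≤ h.perp (h.perp X) := fun x hx y hy => h.symm_one (hy x hx)
  refine (AddSubgroup.eq_of_le_of_card_ge hle ?_).symm
  have h1 := h.card_le_mul_perp X
  have h2 := h.card_mul_perp_le (h.perp X)
  have h3 : 0 < Nat.card (h.perp X) := Nat.card_pos
  refine Nat.le_of_mul_le_mul_left (le_trans h2 ?_) h3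
  rwa [mul_comm]

/-- The exponent is squarefree. -/
theorem squarefree_exponent {r : ℕ} {x : W} (hx : r • (r • x) = 0) : r • x = 0 := by
  let U : AddSubgroup W := (DistribMulAction.toAddMonoidHom W r).range ⊓
    (DistribMulAction.toAddMonoidHom W r).ker
  have hU : U = ⊥ := by
    refine h.no_isotropic U ?_ ?_
    · rintro g _ ⟨⟨y, rfl⟩, hy⟩
      refine ⟨⟨g • y, (smul_comm g r y).symm⟩, ?_⟩
      change r • (g • r • y) = 0
      rw [← smul_comm g r (r • y), show r • r • y = 0 from hy, smul_zero]
    · rintro a ⟨⟨a', rfl⟩, -⟩ b ⟨-, hb⟩
      show β (r • a') b = 1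
      rw [h.nsmul_left, ← h.nsmul_right, show r • b = 0 from hb, h.zero_right]
  have : r • x ∈ U := ⟨⟨x, rfl⟩, hx⟩
  rwa [hU, AddSubgroup.mem_bot] at this

end IsPairing

end CfsgLib.Perm.OddBase
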