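import Cfsg.Agent.Lib.Perm.OddBase.Basic

/-!
# Odd order permutation groups have a regular orbit on the power set (Gluck)
-/

namespace CfsgLib.Perm.OddBase

universe u

/-- The action on an invariant set. -/
@[reducible] def setAction {G α : Type*} [Group G] [MulAction G α] (O : Set α)
    (hO : ∀ g : G, ∀ x ∈ O, g • x ∈ O) : MulAction G O where
  smul g x := ⟨g • (x : α), hO g _ x.2⟩
  one_smul x := Subtype.ext (one_smul G (x : α))
  mul_smul g h x := Subtype.ext (mul_smul g h (x : α))

variable {G α : Type u} [Group G] [Finite G] [Finite α] [MulAction G α]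

theorem invariant_compl {O : Set α} (hO : ∀ g : G, ∀ x ∈ O, g • x ∈ O) :
    ∀ g : G, ∀ x ∈ Oᶜ, g • x ∈ Oᶜ := fun g x hx hgx => hx (by simpa using hO g⁻¹ _ hgx)

theorem hasSubset_of_invariant (hodd : Odd (Nat.card G))
    (IH : SubsetBelow.{u} (Nat.card α)) (O : Set α) (hO : ∀ g : G, ∀ x ∈ O, g • x ∈ O)
    (hne : O.Nonempty) (hne' : Oᶜ.Nonempty) : HasSubset G α := by
  have hlt : ∀ P : Set α, (Pᶜ).Nonempty → Nat.card P < Nat.card α := fun P hP => by
    rw [Nat.card_coe_set_eq, ← Set.ncard_univ]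
    exact Set.ncard_lt_ncard (Set.ssubset_univ_iff.2 fun e => by simp [e] at hP) (Set.toFinite _)
  obtain ⟨S1, h1⟩ := @IH G O _ _ _ (setAction O hO) (hlt O hne') hodd
  obtain ⟨S2, h2⟩ := @IH G ↥Oᶜ _ _ _ (setAction Oᶜ (invariant_compl hO))
    (hlt Oᶜ (by rwa [compl_compl])) hodd
  refine ⟨Subtype.val '' S1 ∪ Subtype.val '' S2, fun g hg x => ?_⟩
  have k1 := h1 g fun y hy => by
    rcases hg y (Or.inl ⟨y, hy, rfl⟩) with ⟨z, hz, e⟩ | ⟨z, hz, e⟩
    · have h' : z = ⟨g • (y : α), hO g _ y.2⟩ := Subtype.ext e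
      subst h'; exact hz
    · exact absurd (hO g _ y.2) (e ▸ z.2)
  have k2 := h2 g fun y hy => by
    rcases hg y (Or.inr ⟨y, hy, rfl⟩) with ⟨z, hz, e⟩ | ⟨z, hz, e⟩
    · exact absurd (e ▸ z.2) (invariant_compl hO g _ y.2)
    · have h' : z = ⟨g • (y : α), invariant_compl hO g _ y.2⟩ := Subtype.ext e
      subst h'; exact hz
  by_cases hx : x ∈ O
  · exact congrArg Subtype.val (k1 ⟨x, hx⟩)
  · exact congrArg Subtype.val (k2 ⟨x, hx⟩)

/-- A transitive group with a nontrivial system of blocks. -/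
theorem hasSubset_of_blocks (hodd : Odd (Nat.card G)) (IH : SubsetBelow.{u} (Nat.card α))
    {β : Type u} [Finite β] [MulAction G β] [MulAction.IsPretransitive G α] (π : α → β)
    (hπ : ∀ (g : G) (x : α), π (g • x) = g • π x) (hsurj : Function.Surjective π)
    (hβ : Nat.card β < Nat.card α) (htwo : ∃ b c : β, b ≠ c) : HasSubset G α := by
  classical
  haveI : Fintype α := Fintype.ofFinite α
  haveI : MulAction.IsPretransitive G β := ⟨fun b c => by
    obtain ⟨x, rfl⟩ := hsurj b
    obtain ⟨y, rfl⟩ := hsurj c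
    obtain ⟨g, rfl⟩ := MulAction.exists_smul_eq G x y
    exact ⟨g, (hπ g x).symm⟩⟩
  obtain ⟨b0, c0, hbc⟩ := htwo
  choose t ht using fun b : β => MulAction.exists_smul_eq G b0 b
  let F : Set α := {x | π x = b0}
  have hF : ∀ g : MulAction.stabilizer G b0, ∀ x ∈ F, g • x ∈ F := fun g x hx => by
    show π ((g : G) • x) = b0
    rw [hπ, show π x = b0 from hx]
    exact g.2
  have hFlt : Nat.card F < Nat.card α := by
    rw [Nat.card_coe_set_eq, ← Set.ncard_univ]
    refine Set.ncard_lt_ncard (Set.ssubset_univ_iff.2 fun e => ?_) (Set.toFinite _)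
    obtain ⟨y, hy⟩ := hsurj c0
    have : y ∈ F := by rw [e]; trivial
    exact hbc (this.symm.trans hy)
  have hα : Odd (Nat.card α) := by
    obtain ⟨x0, -⟩ := hsurj b0
    have : Nat.card α ∣ Nat.card G := by
      rw [← Nat.card_congr (Equiv.Set.univ α), ← MulAction.orbit_eq_univ G x0,
        Nat.card_congr (MulAction.orbitEquivQuotientStabilizer G x0)]
      exact Subgroup.card_quotient_dvd_card _
    exact Odd.of_dvd_nat hodd this
  -- all fibres have the same size
  have hfib : ∀ b, Nat.card {x : α // π x = b} = Nat.card F := fun b =>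
    Nat.card_congr
      { toFun := fun x => ⟨(t b)⁻¹ • x.1, by
          show π _ = b0
          rw [hπ, x.2, inv_smul_eq_iff, ht]⟩
        invFun := fun x => ⟨t b • x.1, by rw [hπ, show π x.1 = b0 from x.2, ht]⟩
        left_inv := fun x => Subtype.ext (smul_inv_smul _ _)
        right_inv := fun x => Subtype.ext (inv_smul_smul _ _) }
  have hFodd : Odd (Nat.card F) := by
    haveI : Fintype β := Fintype.ofFinite β
    have : Nat.card α = Nat.card β * Nat.card F := by
      rw [← Nat.card_congr (Equiv.sigmaFiberEquiv π), Nat.card_sigma,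
        Finset.sum_congr rfl (fun b _ => hfib b), Finset.sum_const, smul_eq_mul,
        Finset.card_univ, Nat.card_eq_fintype_card (α := β)]
    exact Odd.of_dvd_nat hα ⟨Nat.card β, by rw [this, mul_comm]⟩
  obtain ⟨S0, hS0⟩ := @IH (MulAction.stabilizer G b0) F _ _ _ (setAction F hF) hFlt
    (odd_subgroup hodd _)
  obtain ⟨T, hT⟩ := IH G β hβ hodd
  -- the union of copies of the set and of its complement
  let X : Bool → Set α := fun c => if c then Subtype.val '' S0 else Subtype.val '' S0ᶜ
  have hXF : ∀ c, X c ⊆ F := by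
    intro c x hx
    cases c <;> (obtain ⟨y, -, rfl⟩ := hx; exact y.2)
  have hXcard : ∀ c d, (X c).ncard = (X d).ncard → c = d := by
    have key : S0.ncard ≠ S0ᶜ.ncard := by
      intro e
      have := Set.ncard_add_ncard_compl S0
      obtain ⟨k, hk⟩ := hFodd
      omega
    intro c d h
    cases c <;> cases d <;>
      simp only [X, if_true, Bool.false_eq_true, if_false,
        Set.ncard_image_of_injective _ Subtype.val_injective] at h <;>
      first | rfl | exact absurd h key | exact absurd h.symm key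
  refine ⟨{x | (t (π x))⁻¹ • x ∈ X (decide (π x ∈ T))}, fun g hg x => ?_⟩
  set S : Set α := {x | (t (π x))⁻¹ • x ∈ X (decide (π x ∈ T))} with hSdef
  have hback : ∀ y, g • y ∈ S → y ∈ S := by
    intro y hy
    have heq : (fun z => g • z) '' S = S :=
      Set.eq_of_subset_of_ncard_le (by rintro _ ⟨z, hz, rfl⟩; exact hg z hz)
        (by rw [Set.ncard_image_of_injective _ (MulAction.injective g)]) (Set.toFinite _)
    obtain ⟨z, hz, e⟩ := heq.symm ▸ hy
    exact MulAction.injective g e ▸ hz
  set s : β → G := fun b => (t (g • b))⁻¹ * g * t b with hsdef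
  have hs : ∀ b, s b ∈ MulAction.stabilizer G b0 := fun b => by
    rw [MulAction.mem_stabilizer_iff, hsdef]
    simp only [mul_smul]
    rw [ht, inv_smul_eq_iff, ht]
  have hmove : ∀ b, ∀ y ∈ F,
      s b • y ∈ X (decide (g • b ∈ T)) ↔ y ∈ X (decide (b ∈ T)) := by
    intro b y hy
    have h1 : π (t b • y) = b := by rw [hπ, show π y = b0 from hy, ht]
    have h2 : π (g • t b • y) = g • b := by rw [hπ, h1]
    have i1 : t b • y ∈ S ↔ y ∈ X (decide (b ∈ T)) := by
      show (t (π (t b • y)))⁻¹ • (t b • y) ∈ X (decide (π (t b • y) ∈ T)) ↔ _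
      rw [h1, inv_smul_smul]
    have i2 : g • t b • y ∈ S ↔ s b • y ∈ X (decide (g • b ∈ T)) := by
      show (t (π (g • t b • y)))⁻¹ • (g • t b • y) ∈ X (decide (π (g • t b • y) ∈ T)) ↔ _
      rw [h2, hsdef, mul_smul, mul_smul]
    rw [← i1, ← i2]
    exact ⟨hback _, hg _⟩
  have hsame : ∀ b, decide (g • b ∈ T) = decide (b ∈ T) := by
    intro b
    refine hXcard _ _ ?_
    have : (fun y => s b • y) '' X (decide (b ∈ T)) = X (decide (g • b ∈ T)) := by
      ext z
      constructor
      · rintro ⟨y, hy, rfl⟩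
        exact (hmove b y (hXF _ hy)).2 hy
      · intro hz
        have hy : (s b)⁻¹ • z ∈ F := hF ⟨(s b)⁻¹, inv_mem (hs b)⟩ z (hXF _ hz)
        exact ⟨_, (hmove b _ hy).1 (by rwa [smul_inv_smul]), smul_inv_smul _ _⟩
    rw [← this, Set.ncard_image_of_injective _ (MulAction.injective _)]
  have hfix : ∀ b : β, g • b = b := hT g fun b hb => by simpa [hb] using hsame b
  set b := π x with hbdef
  have hxF : (t b)⁻¹ • x ∈ F := by
    show π _ = b0
    rw [hπ, ← hbdef, inv_smul_eq_iff, ht]
  have key := hS0 ⟨s b, hs b⟩ (fun y hy => by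
    have hiff := fun z : F => hmove b z.1 z.2
    rw [hsame b] at hiff
    by_cases hbT : b ∈ T
    · obtain ⟨z, hz, e⟩ : s b • y.1 ∈ Subtype.val '' S0 := by
        simpa [X, hbT] using (hiff y).2 (by simp [X, hbT, hy])
      have h' : z = ⟨s b • y.1, hF ⟨s b, hs b⟩ _ y.2⟩ := Subtype.ext e
      subst h'; exact hz
    · by_contra hn
      have h' : s b • y.1 ∈ X (decide (b ∈ T)) := by
        simp only [X, hbT, decide_false, Bool.false_eq_true, if_false]
        exact ⟨_, hn, rfl⟩
      obtain ⟨z, hz, e⟩ : y.1 ∈ Subtype.val '' S0ᶜ := by simpa [X, hbT] using (hiff y).1 h'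
      exact hz ((Subtype.ext e : z = y) ▸ hy)) ⟨(t b)⁻¹ • x, hxF⟩
  have := congrArg Subtype.val key
  change s b • ((t b)⁻¹ • x) = (t b)⁻¹ • x at this
  rw [hsdef] at this
  simp only [mul_smul, smul_inv_smul] at this
  rw [hfix b] at this
  exact MulAction.injective _ this

theorem four_points (σ : Equiv.Perm (Fin 4)) :
    (∀ i, σ (Fin.rev i) = Fin.rev (σ i)) → σ ^ 4 = 1 := by
  intro h
  have key : ∀ c d : Fin 4, d ≠ c → d ≠ Fin.rev c → ∀ i : Fin 4,
      (![c, d, Fin.rev d, Fin.rev c] : Fin 4 → Fin 4)^[4] i = i := by decide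
  have hf : ⇑σ = ![σ 0, σ 1, Fin.rev (σ 1), Fin.rev (σ 0)] := by
    funext i
    fin_cases i
    · rfl
    · rfl
    · exact h 1
    · exact h 0
  refine Equiv.ext fun i => ?_
  rw [Equiv.Perm.coe_pow, hf, Equiv.Perm.one_apply]
  refine key _ _ (fun e => absurd (σ.injective e) (by decide)) (fun e => ?_) i
  rw [← h 0] at e
  exact absurd (σ.injective e) (by decide)

/-- A group with an abelian regular normal subgroup. -/
theorem hasSubset_of_regular (hodd : Odd (Nat.card G))
    (IH : PairBelow.{u} (Nat.card α + 1)) [MulAction.IsPretransitive G α]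
    [FaithfulSMul G α] (N : Subgroup G) [N.Normal] (hN : ∀ a ∈ N, ∀ b ∈ N, a * b = b * a)
    (htr : ∀ x y : α, ∃ n ∈ N, n • x = y) (hN0 : N ≠ ⊥)
    (hmin : ∀ M : Subgroup G, M.Normal → M ≤ N → M = ⊥ ∨ M = N) : HasSubset G α := by
  classical
  obtain ⟨n0, hn0, hn0'⟩ : ∃ n ∈ N, n ≠ 1 :=
    (Subgroup.bot_or_exists_ne_one N).resolve_left hN0
  obtain ⟨x0⟩ : Nonempty α := by
    by_contra h
    rw [not_nonempty_iff] at h
    exact hn0' (FaithfulSMul.eq_of_smul_eq_smul (α := α) fun x => (IsEmpty.false x).elim)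
  -- regularity
  have hreg : ∀ n ∈ N, n • x0 = x0 → n = 1 := by
    intro n hn h
    refine FaithfulSMul.eq_of_smul_eq_smul (α := α) fun y => ?_
    obtain ⟨m, hm, rfl⟩ := htr x0 y
    rw [one_smul, ← mul_smul, hN n hn m hm, mul_smul, h]
  have hinj : ∀ a ∈ N, ∀ b ∈ N, a • x0 = b • x0 → a = b := fun a ha b hb h => by
    have := hreg (b⁻¹ * a) (N.mul_mem (N.inv_mem hb) ha) (by rw [mul_smul, h, inv_smul_smul])
    exact (inv_mul_eq_one.1 this).symm
  set G0 := MulAction.stabilizer G x0 with hG0
  letI : CommGroup N :=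
    { (inferInstance : Group N) with mul_comm := fun a b => Subtype.ext (hN a a.2 b b.2) }
  letI act : DistribMulAction G0 (Additive N) :=
    { smul := fun g m => Additive.ofMul
        ⟨(g : G) * (Additive.toMul m : N) * (g : G)⁻¹,
          Subgroup.Normal.conj_mem inferInstance _ (Additive.toMul m).2 _⟩
      one_smul := fun m => by
        refine Additive.toMul.injective (Subtype.ext ?_)
        show ((1 : G0) : G) * (Additive.toMul m : N) * ((1 : G0) : G)⁻¹ = _
        simp
      mul_smul := fun g h m => by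
        refine Additive.toMul.injective (Subtype.ext ?_)
        show ((g * h : G0) : G) * (Additive.toMul m : N) * ((g * h : G0) : G)⁻¹ =
          (g : G) * ((h : G) * (Additive.toMul m : N) * (h : G)⁻¹) * (g : G)⁻¹
        push_cast
        group
      smul_zero := fun g => by
        refine Additive.toMul.injective (Subtype.ext ?_)
        show (g : G) * 1 * (g : G)⁻¹ = 1
        group
      smul_add := fun g m k => by
        refine Additive.toMul.injective (Subtype.ext ?_)
        show (g : G) * ((Additive.toMul m : N) * (Additive.toMul k : N) : G) * (g : G)⁻¹ =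
          ((g : G) * (Additive.toMul m : N) * (g : G)⁻¹) *
            ((g : G) * (Additive.toMul k : N) * (g : G)⁻¹)
        group }
  have hirr : IsIrred G0 (Additive N) := by
    intro U hU
    set M : Subgroup G := (AddSubgroup.toSubgroup' U).map N.subtype with hMdef
    have hMmem : ∀ z : N, (z : G) ∈ M ↔ Additive.ofMul z ∈ U := fun z => by
      constructor
      · rintro ⟨w, hw, e⟩
        have : w = z := Subtype.ext e
        exact this ▸ hw
      · intro h; exact ⟨z, h, rfl⟩
    have hMN : M.Normal := ⟨fun m hm g => by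
      obtain ⟨k, hk, hkx⟩ := htr x0 (g • x0)
      have hs : k⁻¹ * g ∈ G0 := by
        rw [hG0, MulAction.mem_stabilizer_iff, mul_smul, ← hkx, inv_smul_smul]
      obtain ⟨z, hz, rfl⟩ := hm
      have hN' : (g * z * g⁻¹ : G) ∈ N := Subgroup.Normal.conj_mem inferInstance _ z.2 g
      have h2 := hU ⟨_, hs⟩ _ hz
      refine (hMmem ⟨_, hN'⟩).2 ?_
      have e : (⟨_, hN'⟩ : N) = Additive.toMul ((⟨_, hs⟩ : G0) • Additive.ofMul z) := by
        apply Subtype.ext
        show g * (z : G) * g⁻¹ = k⁻¹ * g * (z : G) * (k⁻¹ * g)⁻¹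
        have h3 := hN k hk _ hN'
        calc g * (z : G) * g⁻¹ = k⁻¹ * (k * (g * z * g⁻¹)) := by group
          _ = k⁻¹ * (g * z * g⁻¹ * k) := by rw [h3]
          _ = _ := by group
      rw [e]; exact h2⟩
    rcases hmin M hMN (Subgroup.map_subtype_le _) with h | h
    · left
      refine (AddSubgroup.eq_bot_iff_forall _).2 fun z hz => ?_
      have := (hMmem (Additive.toMul z)).2 hz
      rw [h, Subgroup.mem_bot] at this
      exact Additive.toMul.injective (Subtype.ext this)
    · right
      refine (AddSubgroup.eq_top_iff' _).2 fun z => ?_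
      exact (hMmem (Additive.toMul z)).1 (by rw [h]; exact (Additive.toMul z).2)
  have hcard : Nat.card (Additive N) ≤ Nat.card α :=
    Nat.card_le_card_of_injective (fun m => ((Additive.toMul m : N) : G) • x0) fun a b h =>
      Additive.toMul.injective (Subtype.ext (hinj _ (Additive.toMul a).2 _ (Additive.toMul b).2 h))
  obtain ⟨va, vb, hpair⟩ := IH G0 (Additive N) (by omega) (odd_subgroup hodd _)
    (isCR_of_irred hirr)
  set a : G := ((Additive.toMul va : N) : G) with hadef
  set b : G := ((Additive.toMul vb : N) : G) with hbdef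
  have ha : a ∈ N := (Additive.toMul va).2
  have hb : b ∈ N := (Additive.toMul vb).2
  have hpair' : ∀ g : G, g • x0 = x0 → g * a * g⁻¹ = a → g * b * g⁻¹ = b →
      ∀ x : α, g • x = x := by
    intro g hg h1 h2 x
    have h3 := hpair ⟨g, hg⟩ (Additive.toMul.injective (Subtype.ext h1))
      (Additive.toMul.injective (Subtype.ext h2))
    obtain ⟨m, hm, rfl⟩ := htr x0 x
    have h4 : g * m * g⁻¹ = m :=
      congrArg (fun z => ((Additive.toMul z : N) : G)) (h3 (Additive.ofMul ⟨m, hm⟩))
    calc g • m • x0 = (g * m * g⁻¹) • g • x0 := by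
          rw [smul_smul, smul_smul]; congr 1; group
      _ = m • x0 := by rw [h4, hg]
  have hfixcomm : ∀ g : G, g • x0 = x0 → ∀ c ∈ N, g • c • x0 = c • x0 → g * c * g⁻¹ = c := by
    intro g hg c hc h
    refine hinj _ (Subgroup.Normal.conj_mem inferInstance c hc g) c hc ?_
    rw [mul_smul, mul_smul, inv_smul_eq_iff.2 hg.symm, h]
  -- a single element with trivial centralizer suffices
  have single : ∀ u ∈ N, u ≠ 1 →
      (∀ g : G, g • x0 = x0 → g * u * g⁻¹ = u → ∀ x : α, g • x = x) → HasSubset G α := by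
    intro u hu hu1 hk
    refine ⟨{x0, u • x0}, fun g hg => ?_⟩
    have hne : u • x0 ≠ x0 := fun e => hu1 (hreg u hu e)
    have h0 : g • x0 = x0 := by
      rcases hg x0 (Set.mem_insert _ _) with h | h
      · exact h
      · rcases hg (u • x0) (Set.mem_insert_of_mem _ rfl) with h' | h'
        · exact fix_of_sq_fix hodd (by rw [Set.mem_singleton_iff.1 h, h'])
        · rw [Set.mem_singleton_iff] at h h'
          exact absurd (MulAction.injective g (h'.trans h.symm)) hne
    have h1 : g • u • x0 = u • x0 := by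
      rcases hg (u • x0) (Set.mem_insert_of_mem _ rfl) with h | h
      · exact absurd (MulAction.injective g (h.trans h0.symm)) hne
      · exact h
    exact hk g h0 (hfixcomm g h0 u hu h1)
  by_cases ha1 : a = 1
  · by_cases hb1 : b = 1
    · exact single n0 hn0 hn0' fun g hg _ => hpair' g hg (by rw [ha1]; simp) (by rw [hb1]; simp)
    · exact single b hb hb1 fun g hg h => hpair' g hg (by rw [ha1]; simp) h
  by_cases hb1 : b = 1
  · exact single a ha ha1 fun g hg h => hpair' g hg h (by rw [hb1]; simp)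
  by_cases hab : a = b
  · exact single a ha ha1 fun g hg h => hpair' g hg h (hab ▸ h)
  by_cases hab1 : a * b = 1
  · refine single a ha ha1 fun g hg h => hpair' g hg h ?_
    rw [← inv_eq_of_mul_eq_one_right hab1]
    calc g * a⁻¹ * g⁻¹ = (g * a * g⁻¹)⁻¹ := by group
      _ = a⁻¹ := by rw [h]
  -- four points
  have hsq : ∀ c ∈ N, c * c = 1 → c = 1 := fun c _ hc => eq_one_of_sq hodd (by rw [sq, hc])
  let v : Fin 4 → G := ![1, a, b, a * b]
  have hvN : ∀ i, v i ∈ N := fun i => by
    fin_cases i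
    · exact N.one_mem
    · exact ha
    · exact hb
    · exact N.mul_mem ha hb
  have hvinj : Function.Injective v := by
    intro i j h
    fin_cases i <;> fin_cases j <;>
      simp [v, ha1, hb1, hab, hab1, Ne.symm ha1, Ne.symm hb1, Ne.symm hab, Ne.symm hab1] at h ⊢
  refine ⟨Set.range fun i => v i • x0, fun g hg => ?_⟩
  have hex : ∀ i, ∃ j, g • v i • x0 = v j • x0 := fun i => by
    obtain ⟨j, hj⟩ := hg _ ⟨i, rfl⟩
    exact ⟨j, hj.symm⟩
  choose σ hσ using hex
  have hσinj : Function.Injective σ := fun i j h =>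
    hvinj (hinj _ (hvN i) _ (hvN j) (MulAction.injective g
      (show g • v i • x0 = g • v j • x0 by rw [hσ, hσ, h])))
  set σe : Equiv.Perm (Fin 4) := Equiv.ofBijective σ (Finite.injective_iff_bijective.1 hσinj)
  obtain ⟨n, hn, hnx⟩ := htr x0 (g • x0)
  have hform : ∀ m ∈ N, g • m • x0 = (g * m * g⁻¹ * n) • x0 := by
    intro m hm
    rw [mul_smul, hnx, ← mul_smul, ← mul_smul]
    congr 1; group
  have hval : ∀ i, g * v i * g⁻¹ * n = v (σ i) := fun i =>
    hinj _ (N.mul_mem (Subgroup.Normal.conj_mem inferInstance _ (hvN i) g) hn) _ (hvN _)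
      (by rw [← hform _ (hvN i), hσ])
  have hprod : v (σ 0) * v (σ 3) = v (σ 1) * v (σ 2) := by
    have e0 : g * v 0 * g⁻¹ = 1 := by simp [v]
    have e1 : g * v 3 * g⁻¹ = (g * v 1 * g⁻¹) * (g * v 2 * g⁻¹) := by
      simp only [v, Matrix.cons_val]
      group
    rw [← hval, ← hval, ← hval, ← hval, e0, e1]
    have hc : g * v 2 * g⁻¹ ∈ N := Subgroup.Normal.conj_mem inferInstance _ (hvN 2) g
    rw [one_mul]
    calc n * (g * v 1 * g⁻¹ * (g * v 2 * g⁻¹) * n)
        = (n * (g * v 1 * g⁻¹)) * ((g * v 2 * g⁻¹) * n) := by simp only [mul_assoc]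
      _ = ((g * v 1 * g⁻¹) * n) * ((g * v 2 * g⁻¹) * n) := by
          rw [hN n hn _ (Subgroup.Normal.conj_mem inferInstance _ (hvN 1) g)]
  have hpairing : ∀ i j k l : Fin 4, i ≠ j → i ≠ k → i ≠ l → j ≠ k → j ≠ l → k ≠ l →
      v i * v j = v k * v l → j = Fin.rev i ∧ l = Fin.rev k := by
    have hab' := hN a ha b hb
    -- a product of two equal to the product of the other two must be `a * b`
    have half : ∀ i j k l : Fin 4, i ≠ j → i ≠ k → i ≠ l → j ≠ k → j ≠ l → k ≠ l →
        v i * v j = v k * v l → v i * v j = a * b := by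
      intro i j k l h1 h2 h3 h4 h5 h6 h
      let w : Fin 4 → N := fun i => ⟨v i, hvN i⟩
      have huniv : (Finset.univ : Finset (Fin 4)) = {i, j, k, l} := by
        refine (Finset.eq_univ_of_card _ ?_).symm
        simp [h1, h2, h3, h4, h5, h6]
      have hT : w i * w j * (w k * w l) = w 1 * w 2 * (w 1 * w 2) := by
        have e1 : ∏ t, w t = w i * w j * (w k * w l) := by
          rw [huniv]; simp [h1, h2, h3, h4, h5, h6, mul_assoc]
        have e2 : ∏ t, w t = w 1 * w 2 * (w 1 * w 2) := by
          rw [Fin.prod_univ_four]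
          have ew0 : w 0 = 1 := Subtype.ext rfl
          have ew3 : w 3 = w 1 * w 2 := Subtype.ext rfl
          rw [ew0, one_mul, ew3]
        rw [← e1, e2]
      have h' : w i * w j = w k * w l := Subtype.ext h
      rw [← h'] at hT
      have hz : (w i * w j) * (w 1 * w 2)⁻¹ = 1 := by
        refine eq_one_of_sq (odd_subgroup hodd N) ?_
        rw [mul_pow, inv_pow, sq, sq, hT, mul_inv_cancel]
      exact congrArg Subtype.val (mul_inv_eq_one.1 hz)
    have hrevprod : ∀ i : Fin 4, v i * v (Fin.rev i) = a * b := by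
      intro i
      fin_cases i
      · exact one_mul _
      · rfl
      · exact hab'.symm
      · exact mul_one _
    intro i j k l h1 h2 h3 h4 h5 h6 h
    refine ⟨hvinj (mul_left_cancel (a := v i) ?_), hvinj (mul_left_cancel (a := v k) ?_)⟩
    · rw [half i j k l h1 h2 h3 h4 h5 h6 h, hrevprod]
    · rw [half k l i j h6 h2.symm h4.symm h3.symm h5.symm h1 h.symm, hrevprod]
  have hrev : ∀ i, σe (Fin.rev i) = Fin.rev (σe i) := by
    have hne : ∀ i j : Fin 4, i ≠ j → σ i ≠ σ j := fun i j h e => h (hσinj e)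
    obtain ⟨h03, h12⟩ := hpairing (σ 0) (σ 3) (σ 1) (σ 2) (hne _ _ (by decide))
      (hne _ _ (by decide)) (hne _ _ (by decide)) (hne _ _ (by decide)) (hne _ _ (by decide))
      (hne _ _ (by decide)) hprod
    intro i
    show σ (Fin.rev i) = Fin.rev (σ i)
    fin_cases i
    · exact h03
    · exact h12
    · show σ 1 = Fin.rev (σ 2)
      rw [h12, Fin.rev_rev]
    · show σ 0 = Fin.rev (σ 3)
      rw [h03, Fin.rev_rev]
  have hiter : ∀ (k : ℕ) (i : Fin 4), g ^ k • v i • x0 = v ((σe ^ k) i) • x0 := by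
    intro k
    induction k with
    | zero => simp
    | succ k ih =>
      intro i
      rw [pow_succ', mul_smul, ih, hσ, pow_succ', Equiv.Perm.mul_apply]
      rfl
  have hσ1 : σe = 1 := by
    have hgpow : σe ^ Nat.card G = 1 := by
      refine Equiv.ext fun i => hvinj (hinj _ (hvN _) _ (hvN _) ?_)
      rw [← hiter, pow_card_eq_one', one_smul]
      rfl
    have h4 := four_points σe hrev
    obtain ⟨k, hk⟩ := hodd
    have hd : orderOf σe ∣ 1 := by
      have hg1 : Nat.gcd 4 (Nat.card G) = 1 := by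
        have : Nat.Coprime (2 ^ 2) (Nat.card G) :=
          Nat.Coprime.pow_left 2 (Nat.coprime_two_left.2 ⟨k, hk⟩)
        exact this
      rw [← hg1]
      exact Nat.dvd_gcd (orderOf_dvd_of_pow_eq_one h4) (orderOf_dvd_of_pow_eq_one hgpow)
    exact orderOf_eq_one_iff.1 (Nat.dvd_one.1 hd)
  have hfixv : ∀ i, g • v i • x0 = v i • x0 := fun i => by
    rw [hσ]
    exact congrArg (fun j => v j • x0) (DFunLike.congr_fun hσ1 i)
  have h0 : g • x0 = x0 := by simpa [v] using hfixv 0
  exact hpair' g h0 (hfixcomm g h0 a ha (by simpa [v] using hfixv 1))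
    (hfixcomm g h0 b hb (by simpa [v] using hfixv 2))

end CfsgLib.Perm.OddBase
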