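import Cfsg.Agent.Lib.Perm.OddBase.FieldCase
import Cfsg.Agent.Lib.Perm.OddBase.Subsets
import Cfsg.Agent.Lib.OddOrder.Final.Main

/-!
# Completely reducible linear groups of odd order have a base of size two
-/

namespace CfsgLib.Perm.OddBase

universe u

/-- The image of an action in the units of the endomorphism monoid. -/
theorem hasPair_step {G V : Type u} [Group G] [Finite G] [AddCommGroup V] [Finite V]
    [DistribMulAction G V] (hodd : Odd (Nat.card G)) (IH : PairBelow.{u} (Nat.card V))
    (IHs : SubsetBelow.{u} (Nat.card V)) (hcr : IsCR G V) : HasPair G V := by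
  classical
  by_cases hirr : IsIrred G V
  swap
  · exact hasPair_of_reducible hodd IH hcr hirr
  rcases subsingleton_or_nontrivial V with hV | hV
  · exact ⟨0, 0, fun g _ _ x => Subsingleton.elim _ _⟩
  let φ : G →* (AddMonoid.End V)ˣ := (DistribMulAction.toAddMonoidEnd G V).toHomUnits
  letI : DistribMulAction φ.range V :=
    DistribMulAction.compHom V ((Units.coeHom (AddMonoid.End V)).comp φ.range.subtype)
  haveI : FaithfulSMul φ.range V := ⟨fun {a b} hab =>
    Subtype.ext (Units.ext (AddMonoidHom.ext hab))⟩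
  haveI : Finite φ.range := Finite.of_surjective φ.rangeRestrict φ.rangeRestrict_surjective
  have hodd' : Odd (Nat.card φ.range) := Odd.of_dvd_nat hodd (Subgroup.card_range_dvd φ)
  haveI : Group.IsSolvable φ.range := CfsgLib.OddOrder.Final.oddSolvable φ.range hodd'
  have hirr' : IsIrred φ.range V := fun U hU => hirr U fun g v hv => hU ⟨φ g, g, rfl⟩ v hv
  have key : HasPair φ.range V := by
    by_cases hfield : ∀ N : Subgroup φ.range, N.Normal → (∀ a ∈ N, ∀ b ∈ N, a * b = b * a) →
        ∀ r : AddMonoid.End V, r ∈ spanRing N → r ≠ 0 → Function.Injective r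
    · exact hasPair_of_field hodd' IH hfield
    · simp only [not_forall] at hfield
      obtain ⟨N, hN, hab, r, hr, hr0, hri⟩ := hfield
      haveI := hN
      exact hasPair_of_not_field hodd' IH IHs hirr' N hab fun hall => hri (hall r hr hr0)
  obtain ⟨v, w, h⟩ := key
  exact ⟨v, w, fun g hv hw x => h ⟨φ g, g, rfl⟩ hv hw x⟩

theorem hasSubset_faithful {G α : Type u} [Group G] [Finite G] [Finite α] [MulAction G α]
    [FaithfulSMul G α] [MulAction.IsPretransitive G α] (hodd : Odd (Nat.card G))
    (IH : PairBelow.{u} (Nat.card α + 1)) (IHs : SubsetBelow.{u} (Nat.card α)) :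
    HasSubset G α := by
  classical
  haveI : Group.IsSolvable G := CfsgLib.OddOrder.Final.oddSolvable G hodd
  rcases subsingleton_or_nontrivial G with hG | hG
  · exact ⟨∅, fun g _ x => by rw [Subsingleton.elim g 1, one_smul]⟩
  -- an abelian normal subgroup
  have hex : ∃ A : Subgroup G, A.Normal ∧ A ≠ ⊥ ∧ ∀ a ∈ A, ∀ b ∈ A, a * b = b * a := by
    obtain ⟨n, hn⟩ := Group.IsSolvable.solvable (G := G)
    by_contra hall
    push Not at hall
    have hne : ∀ i, derivedSeries G i ≠ ⊥ → derivedSeries G (i + 1) ≠ ⊥ := by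
      intro i hi h0
      obtain ⟨a, ha, b, hb, hab⟩ := hall _ (derivedSeries_normal G i) hi
      refine hab (commutatorElement_eq_one_iff_mul_comm.1 ?_)
      rw [← Subgroup.mem_bot, ← h0, derivedSeries_succ]
      exact Subgroup.commutator_mem_commutator ha hb
    have hall' : ∀ i, derivedSeries G i ≠ ⊥ := by
      intro i
      induction i with
      | zero => rw [derivedSeries_zero]; exact top_ne_bot
      | succ i ih => exact hne i ih
    exact hall' n hn
  obtain ⟨A, hA⟩ := hex
  obtain ⟨N, ⟨hNn, hN0, hNab⟩, hmin⟩ := Set.exists_min_image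
    {A : Subgroup G | A.Normal ∧ A ≠ ⊥ ∧ ∀ a ∈ A, ∀ b ∈ A, a * b = b * a}
    (fun A => Nat.card A) (Set.toFinite _) ⟨A, hA⟩
  haveI := hNn
  by_cases htr : ∀ x y : α, ∃ n ∈ N, n • x = y
  · refine hasSubset_of_regular hodd IH N hNab htr hN0 fun M hM hMN => ?_
    by_cases hM0 : M = ⊥
    · exact Or.inl hM0
    · exact Or.inr (Subgroup.eq_of_le_of_card_ge hMN
        (hmin M ⟨hM, hM0, fun a ha b hb => hNab a (hMN ha) b (hMN hb)⟩))
  -- blocks
  simp only [not_forall] at htr
  obtain ⟨x, y, hxy⟩ := htr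
  let s : Setoid α :=
    { r := fun a b => ∃ n ∈ N, n • a = b
      iseqv :=
        { refl := fun a => ⟨1, N.one_mem, one_smul G a⟩
          symm := fun ⟨n, hn, e⟩ => ⟨n⁻¹, N.inv_mem hn, by rw [← e, inv_smul_smul]⟩
          trans := fun ⟨n, hn, e⟩ ⟨m, hm, f⟩ =>
            ⟨m * n, N.mul_mem hm hn, by rw [mul_smul, e, f]⟩ } }
  have hresp : ∀ (g : G) (a b : α), s a b → s (g • a) (g • b) := by
    rintro g a b ⟨n, hn, rfl⟩
    exact ⟨g * n * g⁻¹, Subgroup.Normal.conj_mem hNn n hn g, by
      rw [mul_smul, mul_smul, inv_smul_smul]⟩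
  letI : MulAction G (Quotient s) :=
    { smul := fun g q => Quotient.map (fun a => g • a) (fun a b h => hresp g a b h) q
      one_smul := fun q => Quotient.inductionOn q fun a => congrArg _ (one_smul G a)
      mul_smul := fun g k q => Quotient.inductionOn q fun a => congrArg _ (mul_smul g k a) }
  refine hasSubset_of_blocks hodd IHs (Quotient.mk s) (fun g a => rfl) Quotient.mk_surjective ?_
    ⟨Quotient.mk s x, Quotient.mk s y, fun e => hxy (Quotient.exact e)⟩
  refine lt_of_le_of_ne (Nat.card_le_card_of_surjective _ Quotient.mk_surjective) fun e => ?_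
  obtain ⟨n, hn, hn1⟩ : ∃ n ∈ N, n ≠ 1 := (Subgroup.bot_or_exists_ne_one N).resolve_left hN0
  refine hn1 (FaithfulSMul.eq_of_smul_eq_smul (α := α) fun a => ?_)
  rw [one_smul]
  have hinj : Function.Injective (Quotient.mk s) :=
    ((Nat.bijective_iff_surjective_and_card _).2 ⟨Quotient.mk_surjective, e.symm⟩).1
  exact (hinj (Quotient.sound ⟨n, hn, rfl⟩ : Quotient.mk s a = Quotient.mk s (n • a))).symm

theorem hasSubset_step {G α : Type u} [Group G] [Finite G] [Finite α] [MulAction G α]
    (hodd : Odd (Nat.card G)) (IH : PairBelow.{u} (Nat.card α + 1))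
    (IHs : SubsetBelow.{u} (Nat.card α)) : HasSubset G α := by
  classical
  rcases isEmpty_or_nonempty α with hα | ⟨⟨x0⟩⟩
  · exact ⟨∅, fun g _ x => (IsEmpty.false x).elim⟩
  by_cases htr : ∀ y : α, ∃ g : G, g • x0 = y
  swap
  · simp only [not_forall, not_exists] at htr
    obtain ⟨y, hy⟩ := htr
    exact hasSubset_of_invariant hodd IHs (MulAction.orbit G x0)
      (fun g x hx => (MulAction.orbit_smul g x0) ▸ by
        obtain ⟨k, rfl⟩ := hx
        exact ⟨g * k * g⁻¹, by simp [smul_smul]⟩)
      ⟨x0, MulAction.mem_orbit_self x0⟩ ⟨y, fun ⟨g, hg⟩ => hy g hg⟩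
  let φ := MulAction.toPermHom G α
  haveI : MulAction.IsPretransitive φ.range α := ⟨fun a b => by
    obtain ⟨g, rfl⟩ := htr a
    obtain ⟨k, rfl⟩ := htr b
    exact ⟨⟨φ (k * g⁻¹), _, rfl⟩, by
      show (k * g⁻¹) • g • x0 = k • x0
      rw [smul_smul, inv_mul_cancel_right]⟩⟩
  obtain ⟨S, hS⟩ := hasSubset_faithful (G := φ.range) (α := α)
    (Odd.of_dvd_nat hodd (Subgroup.card_range_dvd φ)) IH IHs
  exact ⟨S, fun g hg x => hS ⟨φ g, g, rfl⟩ hg x⟩

theorem main : ∀ n, PairBelow.{u} n ∧ SubsetBelow.{u} n := by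
  intro n
  induction n using Nat.strong_induction_on with
  | _ n ih =>
    have hP : PairBelow.{u} n := fun G V _ _ _ _ _ hlt hodd hcr =>
      hasPair_step hodd (ih _ hlt).1 (ih _ hlt).2 hcr
    refine ⟨hP, fun G α _ _ _ _ hlt hodd => hasSubset_step hodd ?_ (ih _ hlt).2⟩
    rcases Nat.lt_or_ge (Nat.card α + 1) n with h | h
    · exact (ih _ h).1
    · rw [show Nat.card α + 1 = n by omega]; exact hP

/-- A completely reducible group of automorphisms of odd order has a base of size two. -/
theorem exists_pair (G V : Type u) [Group G] [Finite G] [AddCommGroup V] [Finite V]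
    [DistribMulAction G V] (hodd : Odd (Nat.card G)) (hcr : IsCR G V) : HasPair G V :=
  (main (Nat.card V + 1)).1 G V (Nat.lt_succ_self _) hodd hcr

end CfsgLib.Perm.OddBase
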