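import Mathlib

/-!
# Bases of size two: the numerical inequalities
-/

namespace CfsgLib.Perm.OddBase

theorem growth : ∀ e : ℕ, 27 ≤ e → 27 * e ^ 18 ≤ 4 ^ (2 * e) := by
  intro e he
  induction e, he using Nat.le_induction with
  | base => norm_num
  | succ e he ih =>
    have h1 : (e + 1) ^ 18 ≤ 16 * e ^ 18 := by
      have h2 : (27 * (e + 1)) ^ 18 ≤ (28 * e) ^ 18 := Nat.pow_le_pow_left (by omega) 18
      rw [mul_pow, mul_pow] at h2
      have h3 : (28 : ℕ) ^ 18 ≤ 16 * 27 ^ 18 := by norm_num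
      have h4 : 28 ^ 18 * e ^ 18 ≤ 16 * 27 ^ 18 * e ^ 18 := Nat.mul_le_mul_right _ h3
      have h5 : 27 ^ 18 * (e + 1) ^ 18 ≤ 27 ^ 18 * (16 * e ^ 18) := by
        calc 27 ^ 18 * (e + 1) ^ 18 ≤ 28 ^ 18 * e ^ 18 := h2
          _ ≤ 16 * 27 ^ 18 * e ^ 18 := h4
          _ = 27 ^ 18 * (16 * e ^ 18) := by ring
      exact Nat.le_of_mul_le_mul_left h5 (by norm_num)
    calc 27 * (e + 1) ^ 18 ≤ 27 * (16 * e ^ 18) := Nat.mul_le_mul_left _ h1
      _ = 16 * (27 * e ^ 18) := by ring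
      _ ≤ 16 * 4 ^ (2 * e) := Nat.mul_le_mul_left _ ih
      _ = 4 ^ (2 * (e + 1)) := by rw [show 2 * (e + 1) = 2 * e + 2 by ring, pow_add]; ring

theorem large_case {Q e : ℕ} (he : 11 ≤ e) (hodd : Odd e) (hQ : 4 ≤ Q)
    (hp : ∀ p, p.Prime → p ∣ e → p < Q) : 27 * e ^ 18 ≤ Q ^ (2 * e) := by
  rcases Nat.lt_or_ge e 27 with hlt | hge
  · have key : ∀ p Q0, p.Prime → p ∣ e → Q0 ≤ p + 1 → 27 * e ^ 18 ≤ Q0 ^ (2 * e) →
        27 * e ^ 18 ≤ Q ^ (2 * e) := fun p Q0 h1 h2 h3 h4 => by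
      refine h4.trans (Nat.pow_le_pow_left ?_ _)
      have := hp p h1 h2
      omega
    obtain ⟨k, hk⟩ := hodd
    have : e = 11 ∨ e = 13 ∨ e = 15 ∨ e = 17 ∨ e = 19 ∨ e = 21 ∨ e = 23 ∨ e = 25 := by omega
    rcases this with rfl | rfl | rfl | rfl | rfl | rfl | rfl | rfl
    · exact key 11 12 (by norm_num) (by norm_num) (by norm_num) (by norm_num)
    · exact key 13 14 (by norm_num) (by norm_num) (by norm_num) (by norm_num)
    · exact key 5 6 (by norm_num) (by norm_num) (by norm_num) (by norm_num)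
    · exact key 17 18 (by norm_num) (by norm_num) (by norm_num) (by norm_num)
    · exact key 19 20 (by norm_num) (by norm_num) (by norm_num) (by norm_num)
    · exact key 7 8 (by norm_num) (by norm_num) (by norm_num) (by norm_num)
    · exact key 23 24 (by norm_num) (by norm_num) (by norm_num) (by norm_num)
    · exact key 5 6 (by norm_num) (by norm_num) (by norm_num) (by norm_num)
  · exact (growth e hge).trans (Nat.pow_le_pow_left hQ _)

/-- The two alternatives used in the count. -/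
theorem count_bound {Q e k h U X V N : ℕ} (hodd : Odd e) (he : 3 ≤ e)
    (hQpp : IsPrimePow Q) (hQ : 4 ≤ Q) (hp : ∀ p, p.Prime → p ∣ e → p ∣ Q - 1)
    (hV : Q ^ e ≤ V) (hU : U ≤ Q - 1) (hk : k ≤ Q - 2) (hkodd : Odd k)
    (hh : h ≤ e ^ 4) (h3 : e = 3 → h ≤ 1) (h5 : e = 5 → h ≤ 15) (h7 : e = 7 → h ≤ 63)
    (h9 : e = 9 → h ≤ 5) (hX : X = e * e * h) (hN : N = k * X * U) :
    (e = 3 ∧ N < V) ∨ ((2 * X) ^ 3 ≤ V ^ 2 ∧ 2 * N + 2 ≤ V) := by
  by_cases he3 : e = 3
  · subst he3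
    refine Or.inl ⟨rfl, ?_⟩
    have hh1 := h3 rfl
    have hX9 : X ≤ 9 := by subst hX; omega
    have h1 : N ≤ k * 9 * (Q - 1) := by subst hN; gcongr
    refine lt_of_le_of_lt h1 (lt_of_lt_of_le ?_ hV)
    obtain ⟨j, rfl⟩ := hkodd
    rcases Nat.lt_or_ge Q 9 with hl | hl
    · interval_cases Q
      · have : j = 0 := by omega
        subst this; norm_num
      · have : j ≤ 1 := by omega
        interval_cases j <;> norm_num
      · have : j ≤ 1 := by omega
        interval_cases j <;> norm_num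
      · have : j ≤ 2 := by omega
        interval_cases j <;> norm_num
      · have : j ≤ 2 := by omega
        interval_cases j <;> norm_num
    · calc (2 * j + 1) * 9 * (Q - 1) < Q * 9 * Q := by
            have h2 : 2 * j + 1 < Q := by omega
            have h3 : Q - 1 ≤ Q := Nat.sub_le _ _
            calc (2 * j + 1) * 9 * (Q - 1) ≤ (2 * j + 1) * 9 * Q := Nat.mul_le_mul_left _ h3
              _ < Q * 9 * Q := by
                refine Nat.mul_lt_mul_of_pos_right ?_ (by omega)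
                omega
        _ ≤ Q * Q * Q := by gcongr
        _ = Q ^ 3 := by ring
  refine Or.inr ?_
  -- it suffices to control `X`
  suffices hmain : (2 * X) ^ 3 ≤ Q ^ (2 * e) ∧ 2 * X + 2 ≤ Q ^ (e - 2) by
    refine ⟨hmain.1.trans ?_, ?_⟩
    · rw [mul_comm 2 e, pow_mul]
      exact Nat.pow_le_pow_left hV 2
    · have hN' : N ≤ X * Q ^ 2 := by
        rw [hN]
        calc k * X * U ≤ Q * X * Q := by gcongr <;> omega
          _ = X * Q ^ 2 := by ring
      calc 2 * N + 2 ≤ 2 * (X * Q ^ 2) + 2 * Q ^ 2 := by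
            have : 1 ≤ Q ^ 2 := Nat.one_le_pow _ _ (by omega)
            omega
        _ = (2 * X + 2) * Q ^ 2 := by ring
        _ ≤ Q ^ (e - 2) * Q ^ 2 := Nat.mul_le_mul_right _ hmain.2
        _ = Q ^ e := by rw [← pow_add, Nat.sub_add_cancel (by omega)]
        _ ≤ V := hV
  have hlt : ∀ p, p.Prime → p ∣ e → p < Q := fun p h1 h2 => by
    have := Nat.le_of_dvd (by omega) (hp p h1 h2)
    omega
  have small : ∀ Q0 B, Q0 ≤ Q → X ≤ B → (2 * B) ^ 3 ≤ Q0 ^ (2 * e) → 2 * B + 2 ≤ Q0 ^ (e - 2) →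
      (2 * X) ^ 3 ≤ Q ^ (2 * e) ∧ 2 * X + 2 ≤ Q ^ (e - 2) := fun Q0 B h1 h2 h3 h4 =>
    ⟨(Nat.pow_le_pow_left (by omega) 3).trans (h3.trans (Nat.pow_le_pow_left h1 _)),
      le_trans (by omega) (h4.trans (Nat.pow_le_pow_left h1 _))⟩
  rcases Nat.lt_or_ge e 11 with hl | hl
  · obtain ⟨j, hj⟩ := hodd
    have : e = 5 ∨ e = 7 ∨ e = 9 := by omega
    rcases this with rfl | rfl | rfl
    · refine small 11 375 ?_ (by subst hX; have := h5 rfl; omega) (by norm_num) (by norm_num)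
      have hd := hp 5 (by norm_num) dvd_rfl
      have h5lt := hlt 5 (by norm_num) dvd_rfl
      rcases Nat.lt_or_ge Q 11 with hq | hq
      · have : Q = 6 := by omega
        subst this
        rw [isPrimePow_nat_iff] at hQpp
        obtain ⟨p, n, hpp, hn, hpn⟩ := hQpp
        have h2 : (2 : ℕ) ∣ p := Nat.prime_two.dvd_of_dvd_pow (hpn ▸ (by norm_num : 2 ∣ 6))
        have h3' : (3 : ℕ) ∣ p := Nat.prime_three.dvd_of_dvd_pow (hpn ▸ (by norm_num : 3 ∣ 6))
        rw [Nat.prime_dvd_prime_iff_eq Nat.prime_two hpp] at h2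
        rw [Nat.prime_dvd_prime_iff_eq Nat.prime_three hpp] at h3'
        omega
      · exact hq
    · exact small 8 3087 (hlt 7 (by norm_num) dvd_rfl) (by subst hX; have := h7 rfl; omega)
        (by norm_num) (by norm_num)
    · exact small 4 405 hQ (by subst hX; have := h9 rfl; omega) (by norm_num) (by norm_num)
  · have hb := large_case hl hodd hQ hlt
    have hX6 : X ≤ e ^ 6 := by
      subst hX
      calc e * e * h ≤ e * e * e ^ 4 := Nat.mul_le_mul_left _ hh
        _ = e ^ 6 := by ring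
    have h1 : (2 * X + 2) ^ 3 ≤ Q ^ (2 * e) := by
      refine le_trans ?_ hb
      calc (2 * X + 2) ^ 3 ≤ (3 * e ^ 6) ^ 3 := by
            refine Nat.pow_le_pow_left ?_ 3
            have : 2 ≤ e ^ 6 := le_trans (by omega : 2 ≤ e) (Nat.le_self_pow (by norm_num) e)
            omega
        _ = 27 * e ^ 18 := by ring
    refine ⟨(Nat.pow_le_pow_left (Nat.le_add_right _ 2) 3).trans h1, ?_⟩
    by_contra hlt'
    push Not at hlt'
    have : Q ^ (2 * e) < Q ^ (2 * e) :=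
      calc Q ^ (2 * e) ≤ Q ^ ((e - 2) * 3) := Nat.pow_le_pow_right (by omega) (by omega)
        _ = (Q ^ (e - 2)) ^ 3 := by rw [pow_mul]
        _ < (2 * X + 2) ^ 3 := Nat.pow_lt_pow_left hlt' (by norm_num)
        _ ≤ Q ^ (2 * e) := h1
    omega

end CfsgLib.Perm.OddBase
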