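import Mathlib

/-!
# Bases of size two for linear groups of odd order: definitions and first reductions
-/

namespace CfsgLib.Perm.OddBase

universe u

section Defs

variable (G : Type*) (V : Type*) [Group G] [AddCommGroup V] [DistribMulAction G V]

/-- `U` is invariant under `G`. -/
def Invariant (U : AddSubgroup V) : Prop := ∀ g : G, ∀ v ∈ U, g • v ∈ U

/-- Two vectors whose common stabilizer acts trivially. -/
def HasPair : Prop := ∃ v w : V, ∀ g : G, g • v = v → g • w = w → ∀ x : V, g • x = x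

/-- Every invariant subgroup has an invariant complement. -/
def IsCR : Prop :=
  ∀ U : AddSubgroup V, Invariant G V U → ∃ W, Invariant G V W ∧ U ⊓ W = ⊥ ∧ U ⊔ W = ⊤

/-- There is no invariant subgroup besides the two trivial ones. -/
def IsIrred : Prop := ∀ U : AddSubgroup V, Invariant G V U → U = ⊥ ∨ U = ⊤

end Defs

/-- A set whose setwise stabilizer acts trivially. -/
def HasSubset (G α : Type*) [Group G] [MulAction G α] : Prop :=
  ∃ S : Set α, ∀ g : G, (∀ x ∈ S, g • x ∈ S) → ∀ x : α, g • x = x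

/-- The main statement for modules with fewer than `n` elements. -/
def PairBelow (n : ℕ) : Prop :=
  ∀ (G V : Type u) [Group G] [Finite G] [AddCommGroup V] [Finite V] [DistribMulAction G V],
    Nat.card V < n → Odd (Nat.card G) → IsCR G V → HasPair G V

/-- The statement on subsets for sets with fewer than `n` points. -/
def SubsetBelow (n : ℕ) : Prop :=
  ∀ (G α : Type u) [Group G] [Finite G] [Finite α] [MulAction G α],
    Nat.card α < n → Odd (Nat.card G) → HasSubset G α

/-- An element of a finite group of odd order which squares to an element of a subgroup lies in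
that subgroup. -/
theorem mem_of_sq_mem {G : Type*} [Group G] [Finite G] (hodd : Odd (Nat.card G))
    (K : Subgroup G) {g : G} (h : g ^ 2 ∈ K) : g ∈ K := by
  obtain ⟨k, hk⟩ : Odd (orderOf g) := Odd.of_dvd_nat hodd (orderOf_dvd_natCard g)
  have : g = ((g ^ 2) ^ k)⁻¹ := by
    rw [← pow_mul, eq_inv_iff_mul_eq_one, ← pow_succ', ← hk, pow_orderOf_eq_one]
  rw [this]
  exact K.inv_mem (K.pow_mem h k)

theorem eq_one_of_sq {G : Type*} [Group G] [Finite G] (hodd : Odd (Nat.card G))
    {g : G} (h : g ^ 2 = 1) : g = 1 := by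
  simpa using mem_of_sq_mem hodd ⊥ (by simpa using h)

theorem fix_of_sq_fix {G α : Type*} [Group G] [Finite G] [MulAction G α]
    (hodd : Odd (Nat.card G)) {g : G} {x : α} (h : g • g • x = x) : g • x = x :=
  mem_of_sq_mem hodd (MulAction.stabilizer G x) (g := g) (by
    show g ^ 2 • x = x
    rw [sq, mul_smul, h])

theorem odd_subgroup {G : Type*} [Group G] [Finite G] (hodd : Odd (Nat.card G))
    (K : Subgroup G) : Odd (Nat.card K) :=
  Odd.of_dvd_nat hodd (Subgroup.card_subgroup_dvd_card K)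

theorem isCR_of_irred {G V : Type*} [Group G] [AddCommGroup V] [DistribMulAction G V]
    (h : IsIrred G V) : IsCR G V := by
  intro U hU
  rcases h U hU with rfl | rfl
  · exact ⟨⊤, fun g v _ => AddSubgroup.mem_top _, by simp, by simp⟩
  · refine ⟨⊥, fun g v hv => ?_, by simp, by simp⟩
    rw [AddSubgroup.mem_bot] at hv ⊢
    simp [hv]

/-- From one pair with trivial stabilizer we get two pairs in different orbits. -/
theorem two_pairs {G V : Type*} [Group G] [Finite G] [AddCommGroup V] [DistribMulAction G V]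
    [Nontrivial V] (hodd : Odd (Nat.card G)) (h : HasPair G V) :
    ∃ P : Bool → V × V, ∀ (g : G) (b c : Bool), g • P b = P c →
      b = c ∧ ∀ x : V, g • x = x := by
  obtain ⟨v, w, hvw⟩ := h
  -- a pair `(a, b)` with `a ≠ b` and trivial stabilizer
  obtain ⟨a, b, hab, hreg⟩ :
      ∃ a b : V, a ≠ b ∧ ∀ g : G, g • a = a → g • b = b → ∀ x : V, g • x = x := by
    by_cases h1 : v = w
    · subst h1
      by_cases h2 : v = 0
      · subst h2
        obtain ⟨u, hu⟩ := exists_ne (0 : V)
        exact ⟨u, 0, hu, fun g _ _ => hvw g (smul_zero g) (smul_zero g)⟩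
      · exact ⟨v, 0, h2, fun g hg _ => hvw g hg hg⟩
    · exact ⟨v, w, h1, hvw⟩
  refine ⟨fun t => if t then (a, b) else (b, a), fun g t s hg => ?_⟩
  have key : ∀ g : G, g • a = b → g • b = a → False := by
    intro g h1 h2
    have h3 : g • a = a := fix_of_sq_fix hodd (by rw [h1, h2])
    exact hab (h3.symm.trans h1)
  cases t <;> cases s <;> simp [Prod.smul_def, Prod.ext_iff] at hg
  · exact ⟨rfl, hreg g hg.2 hg.1⟩
  · exact (key g hg.2 hg.1).elim
  · exact (key g hg.1 hg.2).elim
  · exact ⟨rfl, hreg g hg.1 hg.2⟩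

section Restrict

variable {G V : Type u} [Group G] [AddCommGroup V] [DistribMulAction G V]

/-- The action on an invariant subgroup. -/
@[reducible] def subAction (U : AddSubgroup V) (hU : Invariant G V U) :
    DistribMulAction G U where
  smul g v := ⟨g • (v : V), hU g _ v.2⟩
  one_smul v := Subtype.ext (one_smul G (v : V))
  mul_smul g h v := Subtype.ext (mul_smul g h (v : V))
  smul_zero g := Subtype.ext (smul_zero g)
  smul_add g v w := Subtype.ext (smul_add g (v : V) (w : V))

theorem isCR_sub (hcr : IsCR G V) (U : AddSubgroup V) (hU : Invariant G V U) :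
    @IsCR G U _ _ (subAction U hU) := by
  letI := subAction U hU
  intro X hX
  obtain ⟨Y, hY, h1, h2⟩ := hcr (X.map U.subtype) (by
    rintro g _ ⟨x, hx, rfl⟩
    exact ⟨g • x, hX g x hx, rfl⟩)
  refine ⟨Y.comap U.subtype, fun g v hv => hY g (v : V) hv, ?_, ?_⟩
  · refine (AddSubgroup.eq_bot_iff_forall _).2 fun v hv => Subtype.ext ?_
    exact (AddSubgroup.eq_bot_iff_forall _).1 h1 (v : V) ⟨⟨v, hv.1, rfl⟩, hv.2⟩
  · refine AddSubgroup.eq_top_iff' _ |>.2 fun v => ?_
    have : (v : V) ∈ X.map U.subtype ⊔ Y := by rw [h2]; trivial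
    obtain ⟨_, ⟨x, hx, rfl⟩, y, hy, hxy⟩ := AddSubgroup.mem_sup.1 this
    have hyU : y ∈ U := by
      have e : y = (v : V) - U.subtype x := by rw [← hxy]; abel
      rw [e]
      exact U.sub_mem v.2 x.2
    refine AddSubgroup.mem_sup.2 ⟨x, hx, ⟨y, hyU⟩, hy, ?_⟩
    exact Subtype.ext hxy

/-- Reducible modules. -/
theorem hasPair_of_reducible [Finite G] [Finite V] (hodd : Odd (Nat.card G))
    (IH : PairBelow.{u} (Nat.card V)) (hcr : IsCR G V) (hred : ¬ IsIrred G V) :
    HasPair G V := by
  simp only [IsIrred, not_forall, not_or] at hred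
  obtain ⟨U, hU, hbot, htop⟩ := hred
  obtain ⟨W, hW, h1, h2⟩ := hcr U hU
  have hWtop : W ≠ ⊤ := by
    rintro rfl
    exact hbot (by simpa using h1)
  have hlt : ∀ X : AddSubgroup V, X ≠ ⊤ → Nat.card X < Nat.card V := fun X hX =>
    lt_of_le_of_ne (AddSubgroup.card_le_card_addGroup X)
      fun e => hX (AddSubgroup.eq_top_of_card_eq X e)
  obtain ⟨a₁, b₁, k₁⟩ := @IH G U _ _ _ _ (subAction U hU) (hlt U htop) hodd (isCR_sub hcr U hU)
  obtain ⟨a₂, b₂, k₂⟩ := @IH G W _ _ _ _ (subAction W hW) (hlt W hWtop) hodd (isCR_sub hcr W hW)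
  have hd : Disjoint U W := disjoint_iff.2 h1
  refine ⟨(a₁ : V) + a₂, (b₁ : V) + b₂, fun g ha hb => ?_⟩
  rw [smul_add] at ha hb
  have split : ∀ (p : U) (q : W), g • (p : V) + g • (q : V) = (p : V) + q →
      g • (p : V) = p ∧ g • (q : V) = q := by
    intro p q hpq
    have := AddSubgroup.disjoint_def.1 hd (U.sub_mem (hU g _ p.2) p.2)
      (x := g • (p : V) - p) (by
        have e : g • (p : V) - p = (q : V) - g • (q : V) := by
          rw [sub_eq_sub_iff_add_eq_add, hpq]; abel
        rw [e]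
        exact W.sub_mem q.2 (hW g _ q.2))
    have e1 : g • (p : V) = p := sub_eq_zero.1 this
    exact ⟨e1, by rw [e1] at hpq; exact add_left_cancel hpq⟩
  obtain ⟨pa, qa⟩ := split a₁ a₂ ha
  obtain ⟨pb, qb⟩ := split b₁ b₂ hb
  intro x
  have : x ∈ U ⊔ W := by rw [h2]; trivial
  obtain ⟨u, hu, w, hw, rfl⟩ := AddSubgroup.mem_sup.1 this
  rw [smul_add]
  have e1 := congrArg Subtype.val (k₁ g (Subtype.ext pa) (Subtype.ext pb) ⟨u, hu⟩)
  have e2 := congrArg Subtype.val (k₂ g (Subtype.ext qa) (Subtype.ext qb) ⟨w, hw⟩)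
  exact congrArg₂ (· + ·) e1 e2

end Restrict

end CfsgLib.Perm.OddBase
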