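import Cfsg.Agent.Lib.Perm.OddBase.Basic

/-!
# Bases of size two: modules which are sums of permuted blocks
-/

namespace CfsgLib.Perm.OddBase

universe u

variable {G V : Type u} [Group G] [Finite G] [AddCommGroup V] [Finite V] [DistribMulAction G V]

/-- An irreducible module with a nontrivial system of imprimitivity. -/
theorem hasPair_of_blocks {ι : Type u} [Fintype ι] [MulAction G ι]
    (hodd : Odd (Nat.card G)) (IH : PairBelow.{u} (Nat.card V))
    (IHs : SubsetBelow.{u} (Nat.card V)) (hirr : IsIrred G V)
    (π : ι → AddMonoid.End V)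
    (hπ : ∀ (g : G) (i : ι) (x : V), π (g • i) (g • x) = g • π i x)
    (hidem : ∀ i x, π i (π i x) = π i x)
    (horth : ∀ i j, i ≠ j → ∀ x, π i (π j x) = 0)
    (hsum : ∀ x, ∑ i, π i x = x)
    (hne : ∀ i, ∃ x, π i x ≠ 0)
    (htwo : ∃ i j : ι, i ≠ j) : HasPair G V := by
  classical
  obtain ⟨i0, j0, hij⟩ := htwo
  -- transitivity on blocks
  have htrans : ∀ j : ι, ∃ g : G, g • i0 = j := by
    set U : AddSubgroup V :=
      { carrier := {x | ∀ j, (¬ ∃ g : G, g • i0 = j) → π j x = 0}
        zero_mem' := fun j _ => map_zero _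
        add_mem' := fun {a b} ha hb j hj => by rw [map_add, ha j hj, hb j hj, add_zero]
        neg_mem' := fun {a} ha j hj => by rw [map_neg, ha j hj, neg_zero] } with hUdef
    have hU : Invariant G V U := by
      intro g x hx j hj
      have : π (g⁻¹ • j) x = 0 := hx (g⁻¹ • j) (fun ⟨a, ha⟩ => hj ⟨g * a, by
        rw [mul_smul, ha, smul_inv_smul]⟩)
      have e := hπ g (g⁻¹ • j) x
      rw [smul_inv_smul, this, smul_zero] at e
      exact e
    intro j
    by_contra hj
    rcases hirr U hU with h | h
    · obtain ⟨x, hx⟩ := hne i0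
      have : π i0 x ∈ U := fun k hk => horth k i0 (fun e => hk ⟨1, by rw [one_smul, e]⟩) x
      rw [h, AddSubgroup.mem_bot] at this
      exact hx this
    · obtain ⟨x, hx⟩ := hne j
      exact hx ((show x ∈ U by rw [h]; trivial) j hj)
  choose t ht using htrans
  -- the first block
  set V0 : AddSubgroup V :=
    { carrier := {x | π i0 x = x}
      zero_mem' := map_zero _
      add_mem' := fun {a b} ha hb => by
        simp only [Set.mem_setOf_eq] at ha hb ⊢
        rw [map_add, ha, hb]
      neg_mem' := fun {a} ha => by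
        simp only [Set.mem_setOf_eq] at ha ⊢
        rw [map_neg, ha] } with hV0def
  have hV0 : ∀ x, x ∈ V0 ↔ π i0 x = x := fun x => Iff.rfl
  set H0 := MulAction.stabilizer G i0 with hH0def
  have hV0inv : Invariant H0 V V0 := by
    rintro ⟨g, hg⟩ x hx
    rw [hV0] at hx ⊢
    show π i0 (g • x) = g • x
    have := hπ g i0 x
    rw [MulAction.mem_stabilizer_iff.1 hg, hx] at this
    exact this
  letI : DistribMulAction H0 V0 := subAction V0 hV0inv
  have hirr0 : IsIrred H0 V0 := by
    intro X hX
    by_cases hXb : X = ⊥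
    · exact Or.inl hXb
    right
    set X' := X.map V0.subtype with hX'def
    set U : AddSubgroup V :=
      { carrier := {x | ∀ g : G, π i0 (g • x) ∈ X'}
        zero_mem' := fun g => by rw [smul_zero, map_zero]; exact X'.zero_mem
        add_mem' := fun {a b} ha hb g => by
          rw [smul_add, map_add]; exact X'.add_mem (ha g) (hb g)
        neg_mem' := fun {a} ha g => by
          rw [smul_neg, map_neg]; exact X'.neg_mem (ha g) } with hUdef
    have hU : Invariant G V U := fun g x hx k => by
      rw [smul_smul]; exact hx (k * g)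
    have hXU : ∀ x ∈ X, (x : V) ∈ U := by
      intro x hx g
      by_cases hg : g • i0 = i0
      · refine ⟨(⟨g, hg⟩ : H0) • x, hX _ x hx, ?_⟩
        have := hπ g i0 (x : V)
        rw [hg, (hV0 _).1 x.2] at this
        exact this.symm
      · have e : π (g • i0) (g • (x : V)) = g • (x : V) := by
          rw [hπ, (hV0 _).1 x.2]
        have : π i0 (g • (x : V)) = 0 := by
          rw [← e]; exact horth _ _ (Ne.symm hg) _
        rw [this]; exact X'.zero_mem
    rcases hirr U hU with h | h
    · exfalso
      refine hXb ((AddSubgroup.eq_bot_iff_forall _).2 fun x hx => Subtype.ext ?_)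
      exact AddSubgroup.mem_bot.1 (h ▸ hXU x hx)
    · refine (AddSubgroup.eq_top_iff' _).2 fun y => ?_
      have hy : (y : V) ∈ U := by rw [h]; trivial
      obtain ⟨z, hz, hzy⟩ := hy 1
      rw [one_smul, (hV0 _).1 y.2] at hzy
      have : z = y := Subtype.ext hzy
      exact this ▸ hz
  have hlt0 : Nat.card V0 < Nat.card V := by
    refine lt_of_le_of_ne (AddSubgroup.card_le_card_addGroup _) fun e => ?_
    have htop := AddSubgroup.eq_top_of_card_eq _ e
    obtain ⟨x, hx⟩ := hne j0
    have hx0 : π i0 x = x := (hV0 x).1 (by rw [htop]; trivial)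
    exact hx (by rw [← hx0]; exact horth j0 i0 (Ne.symm hij) x)
  haveI : Nontrivial V0 := by
    obtain ⟨x, hx⟩ := hne i0
    exact ⟨⟨⟨π i0 x, hidem i0 x⟩, 0, fun e => hx (congrArg Subtype.val e)⟩⟩
  obtain ⟨P, hP⟩ := two_pairs (odd_subgroup hodd H0)
    (IH H0 V0 hlt0 (odd_subgroup hodd H0) (isCR_of_irred hirr0))
  -- few blocks
  have hι : Nat.card ι < Nat.card V := by
    choose e he using hne
    have hinj : Function.Injective (fun o : Option ι => o.elim (0 : V) fun i => π i (e i)) := by
      intro a b hab
      cases a <;> cases b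
      · rfl
      · exact absurd hab.symm (he _)
      · exact absurd hab (he _)
      · rename_i a b
        by_contra hne'
        have hne'' : a ≠ b := fun h => hne' (by rw [h])
        simp only [Option.elim] at hab
        have h0 := horth a b hne'' (e b)
        rw [← hab, hidem] at h0
        exact he a h0
    have := Nat.card_le_card_of_injective _ hinj
    rw [Finite.card_option] at this
    omega
  obtain ⟨S, hS⟩ := IHs G ι hι hodd
  -- the two vectors
  set x : V := ∑ j, t j • ((P (decide (j ∈ S))).1 : V) with hxdef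
  set y : V := ∑ j, t j • ((P (decide (j ∈ S))).2 : V) with hydef
  have hcomp : ∀ (k : ι) (f : ι → V0), π k (∑ j, t j • (f j : V)) = t k • (f k : V) := by
    intro k f
    rw [map_sum, Finset.sum_eq_single k]
    · have := hπ (t k) i0 (f k : V)
      rw [ht, (hV0 _).1 (f k).2] at this
      exact this
    · intro j _ hjk
      have := hπ (t j) i0 (f j : V)
      rw [ht, (hV0 _).1 (f j).2] at this
      rw [← this]
      exact horth _ _ (Ne.symm hjk) _
    · simp
  refine ⟨x, y, fun g hgx hgy z => ?_⟩
  -- the element of the stabilizer of the first block attached to `g` and `j`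
  have hs : ∀ j, (t (g • j))⁻¹ * g * t j ∈ H0 := by
    intro j
    rw [MulAction.mem_stabilizer_iff, mul_smul, mul_smul, ht, inv_smul_eq_iff, ht]
  have hmove : ∀ (f : ι → V0), g • (∑ j, t j • (f j : V)) = ∑ j, t j • (f j : V) →
      ∀ j, (⟨_, hs j⟩ : H0) • f j = f (g • j) := by
    intro f hf j
    have := hπ g j (∑ j, t j • (f j : V))
    rw [hf, hcomp, hcomp] at this
    apply Subtype.ext
    show ((t (g • j))⁻¹ * g * t j) • (f j : V) = f (g • j)
    rw [mul_smul, mul_smul, inv_smul_eq_iff]
    exact this.symm
  have hpair : ∀ j, (⟨_, hs j⟩ : H0) • P (decide (j ∈ S)) = P (decide (g • j ∈ S)) := fun j =>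
    Prod.ext (hmove (fun j => (P (decide (j ∈ S))).1) hgx j)
      (hmove (fun j => (P (decide (j ∈ S))).2) hgy j)
  have hfix : ∀ j : ι, g • j = j := by
    refine hS g fun j hj => ?_
    have := (hP _ _ _ (hpair j)).1
    simpa [hj] using this.symm
  have hblock : ∀ j, g • π j z = π j z := by
    intro j
    have hmem : (t j)⁻¹ • π j z ∈ V0 := by
      rw [hV0]
      have e := hπ (t j) i0 ((t j)⁻¹ • π j z)
      rw [ht, smul_inv_smul, hidem] at e
      exact (eq_inv_smul_iff.2 e.symm)
    have := congrArg Subtype.val ((hP _ _ _ (hpair j)).2 ⟨_, hmem⟩)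
    change ((t (g • j))⁻¹ * g * t j) • ((t j)⁻¹ • π j z) = (t j)⁻¹ • π j z at this
    rw [hfix j, mul_smul, mul_smul, smul_inv_smul] at this
    exact MulAction.injective (α := G) ((t j)⁻¹) this
  calc g • z = g • ∑ j, π j z := by rw [hsum]
    _ = ∑ j, π j z := by rw [Finset.smul_sum]; exact Finset.sum_congr rfl fun j _ => hblock j
    _ = z := hsum z

end CfsgLib.Perm.OddBase
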