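import Cfsg.Agent.Lib.Perm.OddBase.Basic

/-!
# Bases of size two: fixed points and counting pairs
-/

namespace CfsgLib.Perm.OddBase

open Finset

variable {G V : Type*} [Group G] [AddCommGroup V] [DistribMulAction G V]

/-- The fixed points of one element. -/
def fixedSub (g : G) : AddSubgroup V where
  carrier := {v | g • v = v}
  zero_mem' := smul_zero g
  add_mem' {a b} ha hb := by rw [Set.mem_setOf_eq] at ha hb ⊢; rw [smul_add, ha, hb]
  neg_mem' {a} ha := by rw [Set.mem_setOf_eq] at ha ⊢; rw [smul_neg, ha]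

theorem mem_fixedSub {g : G} {v : V} : v ∈ fixedSub g ↔ g • v = v := Iff.rfl

theorem card_fixedSub_conj (m a : G) :
    Nat.card (fixedSub (m * a * m⁻¹) : AddSubgroup V) = Nat.card (fixedSub a : AddSubgroup V) := by
  refine Nat.card_congr
    { toFun := fun v => ⟨m⁻¹ • v.1, ?_⟩
      invFun := fun v => ⟨m • v.1, ?_⟩
      left_inv := fun v => Subtype.ext (smul_inv_smul _ _)
      right_inv := fun v => Subtype.ext (inv_smul_smul _ _) }
  · have h := v.2
    rw [mem_fixedSub] at h ⊢
    calc a • m⁻¹ • v.1 = m⁻¹ • (m * a * m⁻¹) • v.1 := by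
          rw [smul_smul, smul_smul]; congr 1; group
      _ = m⁻¹ • v.1 := by rw [h]
  · have h := v.2
    rw [mem_fixedSub] at h ⊢
    rw [mul_smul, mul_smul, inv_smul_smul, h]

/-- Two subgroups meeting in a third. -/
theorem card_mul_le_of_inter [Finite V] (A B F : AddSubgroup V) (h : A ⊓ B ≤ F) :
    Nat.card A * Nat.card B ≤ Nat.card F * Nat.card V := by
  let φ : A × B →+ V := (A.subtype.comp (AddMonoidHom.fst A B)) - (B.subtype.comp (AddMonoidHom.snd A B))
  have hker : Nat.card φ.ker ≤ Nat.card F := by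
    refine Nat.card_le_card_of_injective (fun p => (⟨(p.1.1 : V), h ⟨p.1.1.2, ?_⟩⟩ : F)) ?_
    · have hp := p.2
      rw [AddMonoidHom.mem_ker] at hp
      have e : (p.1.1 : V) = (p.1.2 : V) := sub_eq_zero.1 hp
      rw [e]; exact p.1.2.2
    · intro p q hpq
      have e1 : (p.1.1 : V) = q.1.1 := congrArg (fun z : F => (z : V)) hpq
      have hp := p.2
      have hq := q.2
      rw [AddMonoidHom.mem_ker] at hp hq
      have e2 : (p.1.2 : V) = q.1.2 := by
        rw [← show (p.1.1 : V) = p.1.2 from sub_eq_zero.1 hp,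
          ← show (q.1.1 : V) = q.1.2 from sub_eq_zero.1 hq, e1]
      exact Subtype.ext (Prod.ext (Subtype.ext e1) (Subtype.ext e2))
  have hidx : φ.ker.index ≤ Nat.card V := by
    rw [show φ.ker.index = Nat.card φ.range from
      Nat.card_congr (QuotientAddGroup.quotientKerEquivRange φ).toEquiv]
    exact AddSubgroup.card_le_card_addGroup _
  rw [← Nat.card_prod, ← φ.ker.card_mul_index]
  exact Nat.mul_le_mul hker hidx

/-- If few pairs are fixed there is a pair with trivial stabilizer. -/
theorem hasPair_of_sum [Fintype G] [Finite V] [DecidableEq G] (U : Subgroup G)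
    [DecidablePred (· ∈ U)] (hU : ∀ g ∈ U, g ≠ 1 → (fixedSub g : AddSubgroup V) = ⊥)
    (h : 1 + ∑ g ∈ univ.filter (· ∉ U), Nat.card (fixedSub g : AddSubgroup V) ^ 2 <
      Nat.card V ^ 2) : HasPair G V := by
  classical
  haveI : Fintype V := Fintype.ofFinite V
  by_contra hno
  have hcover : (univ : Finset (V × V)) ⊆ insert (0, 0)
      ((univ.filter (· ∉ U)).biUnion fun g =>
        univ.filter fun p : V × V => g • p.1 = p.1 ∧ g • p.2 = p.2) := by
    rintro ⟨v, w⟩ -
    simp only [HasPair, not_exists, not_forall] at hno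
    obtain ⟨g, hv, hw, x, hx⟩ := hno v w
    by_cases hg : g ∈ U
    · have hb := hU g hg (fun e => hx (by rw [e, one_smul]))
      have hv0 : v = 0 := (AddSubgroup.eq_bot_iff_forall _).1 hb v hv
      have hw0 : w = 0 := (AddSubgroup.eq_bot_iff_forall _).1 hb w hw
      simp [hv0, hw0]
    · refine mem_insert_of_mem (mem_biUnion.2 ⟨g, by simp [hg], ?_⟩)
      simp [hv, hw]
  have := card_le_card hcover
  rw [card_univ, Fintype.card_prod, ← Nat.card_eq_fintype_card, ← sq] at this
  have hins := card_insert_le ((0 : V), (0 : V))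
    ((univ.filter (· ∉ U)).biUnion fun g =>
      univ.filter fun p : V × V => g • p.1 = p.1 ∧ g • p.2 = p.2)
  have hbi : ((univ.filter (· ∉ U)).biUnion fun g =>
      univ.filter fun p : V × V => g • p.1 = p.1 ∧ g • p.2 = p.2).card ≤
      ∑ g ∈ univ.filter (· ∉ U), Nat.card (fixedSub g : AddSubgroup V) ^ 2 := by
    refine card_biUnion_le.trans (Finset.sum_le_sum fun g _ => le_of_eq ?_)
    rw [sq, ← Nat.card_prod, ← Fintype.card_subtype, ← Nat.card_eq_fintype_card]
    exact Nat.card_congr
      { toFun := fun p => (⟨p.1.1, p.2.1⟩, ⟨p.1.2, p.2.2⟩)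
        invFun := fun p => ⟨(p.1.1, p.2.1), p.1.2, p.2.2⟩
        left_inv := fun p => rfl
        right_inv := fun p => rfl }
  omega

/-- The main count: a large bound `B` is reached at most once in each coset of `U`. -/
theorem sum_le_count [Fintype G] [Finite V] [DecidableEq G] (U C : Subgroup G)
    [DecidablePred (· ∈ U)] (hUC : U ≤ C)
    (hout : ∀ g ∉ C, Nat.card (fixedSub g : AddSubgroup V) ^ 2 ≤ Nat.card V)
    (hcoset : ∀ a ∈ C, ∀ b ∈ C, a⁻¹ * b ∈ U → a ≠ b →
      (fixedSub a : AddSubgroup V) ⊓ fixedSub b = ⊥)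
    (B : ℕ) (hB : ∀ a ∈ C, a ∉ U → Nat.card (fixedSub a : AddSubgroup V) ^ 2 ≤ B) :
    ∑ g ∈ univ.filter (· ∉ U), Nat.card (fixedSub g : AddSubgroup V) ^ 2 ≤
      U.relIndex C * B + Nat.card G * Nat.card V := by
  classical
  set big := (univ.filter (· ∉ U)).filter
    (fun g => Nat.card V < Nat.card (fixedSub g : AddSubgroup V) ^ 2) with hbig
  rw [← sum_filter_add_sum_filter_not (univ.filter (· ∉ U))
    (fun g => Nat.card V < Nat.card (fixedSub g : AddSubgroup V) ^ 2)]
  refine Nat.add_le_add ?_ ?_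
  · have hmem : ∀ g ∈ big, g ∉ U ∧ g ∈ C ∧
        Nat.card V < Nat.card (fixedSub g : AddSubgroup V) ^ 2 := by
      intro g hg
      simp only [hbig, mem_filter, mem_univ, true_and] at hg
      refine ⟨hg.1, ?_, hg.2⟩
      by_contra hC
      have := hout g hC
      omega
    have hcard : big.card ≤ U.relIndex C := by
      have : Nat.card big ≤ Nat.card (C ⧸ U.subgroupOf C) := by
        refine Nat.card_le_card_of_injective
          (fun g => (QuotientGroup.mk (⟨g.1, (hmem g.1 g.2).2.1⟩ : C) : C ⧸ U.subgroupOf C)) ?_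
        rintro ⟨a, ha⟩ ⟨b, hb⟩ hab
        rw [QuotientGroup.eq, Subgroup.mem_subgroupOf] at hab
        apply Subtype.ext
        by_contra hne
        have h0 := hcoset a (hmem a ha).2.1 b (hmem b hb).2.1 hab hne
        have h2 := card_mul_le_of_inter (fixedSub a : AddSubgroup V) (fixedSub b) ⊥ h0.le
        rw [AddSubgroup.card_bot, one_mul] at h2
        have ha' := (hmem a ha).2.2
        have hb' := (hmem b hb).2.2
        have : Nat.card V * Nat.card V <
            (Nat.card (fixedSub a : AddSubgroup V) * Nat.card (fixedSub b : AddSubgroup V)) ^ 2 := by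
          rw [mul_pow]
          exact Nat.mul_lt_mul'' ha' hb'
        have h3 := Nat.pow_le_pow_left h2 2
        rw [sq (Nat.card V)] at h3
        omega
      simpa [Subgroup.relIndex, Subgroup.index] using this
    calc ∑ g ∈ big, Nat.card (fixedSub g : AddSubgroup V) ^ 2 ≤ ∑ g ∈ big, B :=
          Finset.sum_le_sum fun g hg => hB g (hmem g hg).2.1 (hmem g hg).1
      _ = big.card * B := by rw [sum_const, smul_eq_mul]
      _ ≤ U.relIndex C * B := Nat.mul_le_mul_right _ hcard
  · refine (Finset.sum_le_card_nsmul _ _ (Nat.card V) fun g hg => ?_).trans ?_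
    · simp only [mem_filter, not_lt] at hg
      exact hg.2
    · rw [smul_eq_mul]
      refine Nat.mul_le_mul_right _ ?_
      rw [Nat.card_eq_fintype_card (α := G)]
      exact card_le_univ _

end CfsgLib.Perm.OddBase
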