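import Cfsg.Agent.Lib.Perm.OddBase.Pairing

/-!
# Bases of size two: completely reducible groups of odd order on small modules
-/

namespace CfsgLib.Perm.OddBase

variable {G : Type*} {V : Type*} [Group G] [AddCommGroup V] [DistribMulAction G V]

/-- Complete reducibility passes to normal subgroups. -/
theorem isCR_normal [Finite V] (hcr : IsCR G V) (C : Subgroup G) [C.Normal] : IsCR C V := by
  classical
  -- a nonzero invariant subgroup contains a minimal one
  let Simple : Set (AddSubgroup V) :=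
    {S | Invariant C V S ∧ S ≠ ⊥ ∧ ∀ T, Invariant C V T → T ≤ S → T ≠ ⊥ → T = S}
  have hex : ∀ U, Invariant C V U → U ≠ ⊥ → ∃ S ∈ Simple, S ≤ U := by
    intro U hU hne
    obtain ⟨S, ⟨hS, hS0, hSU⟩, hmin⟩ := Set.exists_min_image
      {S : AddSubgroup V | Invariant C V S ∧ S ≠ ⊥ ∧ S ≤ U} (fun S => Nat.card S)
      (Set.toFinite _) ⟨U, hU, hne, le_rfl⟩
    exact ⟨S, ⟨hS, hS0, fun T hT hTS hT0 =>
      AddSubgroup.eq_of_le_of_card_ge hTS (hmin T ⟨hT, hT0, hTS.trans hSU⟩)⟩, hSU⟩
  set soc : AddSubgroup V := sSup Simple with hsoc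
  -- translates of minimal subgroups are minimal
  let tr : G → AddSubgroup V → AddSubgroup V := fun g S =>
    S.map (DistribMulAction.toAddMonoidHom V g)
  have htr : ∀ g S, Invariant C V S → Invariant C V (tr g S) := by
    rintro g S hS c _ ⟨x, hx, rfl⟩
    refine ⟨(g⁻¹ * (c : G) * g) • x, hS ⟨_, ?_⟩ x hx, ?_⟩
    · simpa using Subgroup.Normal.conj_mem (inferInstance : C.Normal) c c.2 g⁻¹
    · show g • (g⁻¹ * (c : G) * g) • x = (c : G) • g • x
      rw [smul_smul, smul_smul]; congr 1; group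
  have htrS : ∀ g, ∀ S ∈ Simple, tr g S ∈ Simple := by
    rintro g S ⟨hS, hS0, hmin⟩
    refine ⟨htr g S hS, fun e => hS0 ?_, fun T hT hTS hT0 => ?_⟩
    · refine (AddSubgroup.eq_bot_iff_forall _).2 fun x hx => ?_
      have : g • x ∈ tr g S := ⟨x, hx, rfl⟩
      rw [e, AddSubgroup.mem_bot] at this
      exact (smul_eq_zero_iff_eq g).1 this
    · have hle : tr g⁻¹ T ≤ S := by
        rintro _ ⟨x, hx, rfl⟩
        obtain ⟨y, hy, rfl⟩ := hTS hx
        show g⁻¹ • g • y ∈ S
        rwa [inv_smul_smul]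
      have hne : tr g⁻¹ T ≠ ⊥ := fun e => hT0 <| (AddSubgroup.eq_bot_iff_forall _).2 fun x hx => by
        have : g⁻¹ • x ∈ tr g⁻¹ T := ⟨x, hx, rfl⟩
        rw [e, AddSubgroup.mem_bot] at this
        exact (smul_eq_zero_iff_eq g⁻¹).1 this
      have heq := hmin _ (htr _ _ hT) hle hne
      refine le_antisymm hTS ?_
      rintro _ ⟨x, hx, rfl⟩
      rw [← heq] at hx
      obtain ⟨y, hy, rfl⟩ := hx
      show g • g⁻¹ • y ∈ T
      rwa [smul_inv_smul]
  have hsocG : Invariant G V soc := by
    intro g x hx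
    have hle : soc ≤ soc.comap (DistribMulAction.toAddMonoidHom V g) := sSup_le fun S hS y hy =>
      (le_sSup (htrS g S hS) : tr g S ≤ soc) ⟨y, hy, rfl⟩
    exact hle hx
  obtain ⟨Y, hY, hd, hsup⟩ := hcr soc hsocG
  have hY0 : Y = ⊥ := by
    by_contra hne
    obtain ⟨S, hS, hSY⟩ := hex Y (fun c v hv => hY c v hv) hne
    exact hS.2.1 (le_bot_iff.1 (hd ▸ le_inf (le_sSup hS) hSY))
  rw [hY0, sup_bot_eq] at hsup
  -- complements
  intro U hU
  obtain ⟨Z, ⟨hZ, hUZ⟩, hmax⟩ := Set.exists_max_image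
    {Z : AddSubgroup V | Invariant C V Z ∧ U ⊓ Z = ⊥} (fun Z => Nat.card Z) (Set.toFinite _)
    ⟨⊥, fun c v hv => by rw [AddSubgroup.mem_bot] at hv ⊢; rw [hv, smul_zero], inf_bot_eq U⟩
  refine ⟨Z, hZ, hUZ, ?_⟩
  by_contra hne
  obtain ⟨S, hS, hSnot⟩ : ∃ S ∈ Simple, ¬ S ≤ U ⊔ Z := by
    by_contra hall
    push Not at hall
    exact hne (top_le_iff.1 (hsup ▸ sSup_le hall))
  have hUZinv : Invariant C V (U ⊔ Z) := fun c v hv => by
    obtain ⟨a, ha, b, hb, rfl⟩ := AddSubgroup.mem_sup.1 hv
    rw [smul_add]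
    exact AddSubgroup.add_mem_sup (hU c a ha) (hZ c b hb)
  have hSd : S ⊓ (U ⊔ Z) = ⊥ := by
    by_contra h0
    exact hSnot (inf_eq_left.1 (hS.2.2 _ (fun c v hv => ⟨hS.1 c v hv.1, hUZinv c v hv.2⟩)
      inf_le_left h0))
  have hnew : Invariant C V (Z ⊔ S) ∧ U ⊓ (Z ⊔ S) = ⊥ := by
    refine ⟨fun c v hv => ?_, (AddSubgroup.eq_bot_iff_forall _).2 ?_⟩
    · obtain ⟨a, ha, b, hb, rfl⟩ := AddSubgroup.mem_sup.1 hv
      rw [smul_add]
      exact AddSubgroup.add_mem_sup (hZ c a ha) (hS.1 c b hb)
    · rintro x ⟨hxU, hxZS⟩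
      obtain ⟨a, ha, b, hb, rfl⟩ := AddSubgroup.mem_sup.1 hxZS
      have hb' : b ∈ U ⊔ Z := by
        have e : b = (a + b) + (-a) := by abel
        rw [e]
        exact AddSubgroup.add_mem_sup hxU (Z.neg_mem ha)
      have b0 : b = 0 := (AddSubgroup.eq_bot_iff_forall _).1 hSd b ⟨hb, hb'⟩
      subst b0
      rw [add_zero] at hxU ⊢
      exact (AddSubgroup.eq_bot_iff_forall _).1 hUZ a ⟨hxU, ha⟩
  have h2 := hmax _ hnew
  have hle : Z ⊔ S ≤ Z := (AddSubgroup.eq_of_le_of_card_ge le_sup_left h2).ge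
  exact hSnot ((le_sup_right.trans hle).trans le_sup_right)

/-- A normal `p`-subgroup of a completely reducible group acts trivially on a `p`-group. -/
theorem pGroup_normal_trivial [Finite V] {p n : ℕ} [Fact p.Prime]
    (hV : Nat.card V = p ^ n) (hcr : IsCR G V) (P : Subgroup G) [P.Normal]
    (hP : IsPGroup p P) : ∀ g ∈ P, ∀ x : V, g • x = x := by
  set F : AddSubgroup V :=
    { carrier := {x | ∀ g ∈ P, g • x = x}
      zero_mem' := fun g _ => smul_zero g
      add_mem' := fun {a b} ha hb g hg => by rw [smul_add, ha g hg, hb g hg]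
      neg_mem' := fun {a} ha g hg => by rw [smul_neg, ha g hg] } with hF
  have hFG : Invariant G V F := by
    intro k x hx g hg
    have hk := hx (k⁻¹ * g * k) (by
      simpa using Subgroup.Normal.conj_mem (inferInstance : P.Normal) g hg k⁻¹)
    calc g • k • x = k • (k⁻¹ * g * k) • x := by
          rw [smul_smul, smul_smul]; congr 1; group
      _ = k • x := by rw [hk]
  obtain ⟨Y, hY, hd, hsup⟩ := hcr F hFG
  suffices hY0 : Y = ⊥ by
    intro g hg x
    rw [hY0, sup_bot_eq] at hsup
    exact (show x ∈ F by rw [hsup]; trivial) g hg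
  by_contra hne
  letI : MulAction P Y :=
    { smul := fun g y => ⟨(g : G) • (y : V), hY g y y.2⟩
      one_smul := fun y => Subtype.ext (one_smul G (y : V))
      mul_smul := fun g k y => Subtype.ext (mul_smul (g : G) (k : G) (y : V)) }
  obtain ⟨m, -, hm⟩ := (Nat.dvd_prime_pow Fact.out).1 (hV ▸ AddSubgroup.card_addSubgroup_dvd_card Y)
  have hm0 : m ≠ 0 := by
    rintro rfl
    rw [pow_zero] at hm
    exact hne (AddSubgroup.eq_bot_of_card_eq _ hm)
  have hdvd : p ∣ Nat.card Y := hm ▸ dvd_pow_self p hm0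
  obtain ⟨b, hb, hb0⟩ := hP.exists_fixed_point_of_prime_dvd_card_of_fixed_point Y hdvd
    (a := (⟨0, Y.zero_mem⟩ : Y)) (fun g => Subtype.ext (smul_zero (g : G)))
  refine hb0 (Subtype.ext ?_).symm
  exact (AddSubgroup.eq_bot_iff_forall _).1 hd (b : V)
    ⟨fun g hg => congrArg Subtype.val (hb ⟨g, hg⟩), b.2⟩

section Linear

variable [Finite G] [Finite V] [FaithfulSMul G V] {p n : ℕ} [Fact p.Prime]

theorem card_dvd_GL (hel : ∀ x : V, p • x = 0) (hV : Nat.card V = p ^ n) :
    Nat.card G ∣ ∏ i : Fin n, (p ^ n - p ^ (i : ℕ)) := by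
  letI : Module (ZMod p) V := AddCommGroup.zmodModule (n := p) hel
  haveI : Fintype V := Fintype.ofFinite V
  haveI : Module.Finite (ZMod p) V := Module.Finite.of_finite
  have hn : Module.finrank (ZMod p) V = n := by
    have := Module.card_eq_pow_finrank (K := ZMod p) (V := V)
    rw [ZMod.card, ← Nat.card_eq_fintype_card, hV] at this
    exact (Nat.pow_right_injective (Fact.out : p.Prime).two_le this).symm
  let b : Module.Basis (Fin n) (ZMod p) V := Module.finBasisOfFinrankEq (ZMod p) V hn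
  let φ : G →* Matrix (Fin n) (Fin n) (ZMod p) :=
    { toFun := fun g => LinearMap.toMatrix b b
        ((DistribMulAction.toAddMonoidHom V g).toZModLinearMap p)
      map_one' := by
        convert LinearMap.toMatrix_one b
        exact LinearMap.ext fun x => one_smul G x
      map_mul' := fun g k => by
        rw [← LinearMap.toMatrix_mul]
        congr 1
        exact LinearMap.ext fun x => mul_smul g k x }
  have hinj : Function.Injective φ.toHomUnits := by
    intro g k h
    refine FaithfulSMul.eq_of_smul_eq_smul (α := V) fun x => ?_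
    have h2 : φ g = φ k := congrArg Units.val h
    exact DFunLike.congr_fun ((LinearMap.toMatrix b b).injective h2) x
  have := Subgroup.card_dvd_of_injective _ hinj
  rwa [Matrix.card_GL_field, ZMod.card] at this

theorem dvd_of_dvd_two_pow_mul {m a r : ℕ} (hodd : Odd m) (h : m ∣ 2 ^ a * r) : m ∣ r :=
  (Nat.Coprime.pow_right a (Nat.coprime_two_right.2 hodd)).dvd_of_dvd_mul_left h

theorem image_nine (hodd : Odd (Nat.card G)) (hcr : IsCR G V) (hV : Nat.card V = 3 ^ 2)
    (hel : ∀ x : V, 3 • x = 0) : Nat.card G = 1 := by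
  haveI : Fact (Nat.Prime 3) := ⟨Nat.prime_three⟩
  have h1 := card_dvd_GL (G := G) hel hV
  have h3 : Nat.card G ∣ 3 ^ 1 :=
    dvd_of_dvd_two_pow_mul (a := 4) hodd (by simpa [Fin.prod_univ_succ] using h1)
  obtain ⟨i, -, hi⟩ := (Nat.dvd_prime_pow Nat.prime_three).1 h3
  have hP : IsPGroup 3 (⊤ : Subgroup G) := IsPGroup.of_card (n := i) (by simpa using hi)
  rw [Nat.card_eq_one_iff_unique]
  refine ⟨⟨fun a b => ?_⟩, ⟨1⟩⟩
  refine FaithfulSMul.eq_of_smul_eq_smul (α := V) fun x => ?_
  rw [pGroup_normal_trivial hV hcr ⊤ hP a trivial, pGroup_normal_trivial hV hcr ⊤ hP b trivial]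

theorem image_twentyfive (hodd : Odd (Nat.card G)) (hV : Nat.card V = 5 ^ 2)
    (hel : ∀ x : V, 5 • x = 0) : Nat.card G ∣ 15 := by
  haveI : Fact (Nat.Prime 5) := ⟨by norm_num⟩
  have h1 := card_dvd_GL (G := G) hel hV
  exact dvd_of_dvd_two_pow_mul (a := 5) hodd (by simpa [Fin.prod_univ_succ] using h1)

theorem image_fortynine (hodd : Odd (Nat.card G)) (hV : Nat.card V = 7 ^ 2)
    (hel : ∀ x : V, 7 • x = 0) : Nat.card G ∣ 63 := by
  haveI : Fact (Nat.Prime 7) := ⟨by norm_num⟩
  have h1 := card_dvd_GL (G := G) hel hV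
  exact dvd_of_dvd_two_pow_mul (a := 5) hodd (by simpa [Fin.prod_univ_succ] using h1)

theorem image_eightyone (hodd : Odd (Nat.card G)) (hcr : IsCR G V) (hV : Nat.card V = 3 ^ 4)
    (hel : ∀ x : V, 3 • x = 0) {K : Type*} [Field K] {β : V → V → K} {H : Type*} [Group H]
    [DistribMulAction H V] (hβ : IsPairing H β)
    (hexact : ∀ (g : G) x y, β (g • x) (g • y) = β x y) : Nat.card G ∣ 5 := by
  haveI : Fact (Nat.Prime 3) := ⟨Nat.prime_three⟩
  have h1 := card_dvd_GL (G := G) hel hV
  have h2 : Nat.card G ∣ 13 * (3 ^ 6 * 5) :=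
    dvd_of_dvd_two_pow_mul (a := 9) hodd (by simpa [Fin.prod_univ_succ] using h1)
  -- no elements of order 13
  have h13 : ¬ 13 ∣ Nat.card G := by
    intro hdvd
    haveI : Fact (Nat.Prime 13) := ⟨by norm_num⟩
    obtain ⟨a, ha⟩ := exists_prime_orderOf_dvd_card' 13 hdvd
    have hmod := (IsPGroup.of_card (p := 13) (n := 1)
      (show Nat.card (Subgroup.zpowers a) = 13 ^ 1 by rw [Nat.card_zpowers, ha, pow_one])
      ).card_modEq_card_fixedPoints V
    set T : V →+ V := DistribMulAction.toAddMonoidHom V a - AddMonoidHom.id V with hT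
    have hTapply : ∀ x, T x = a • x - x := fun x => rfl
    have hfix : MulAction.fixedPoints (Subgroup.zpowers a) V = (T.ker : Set V) := by
      ext x
      rw [SetLike.mem_coe, AddMonoidHom.mem_ker, hTapply, sub_eq_zero]
      refine ⟨fun h => h ⟨a, Subgroup.mem_zpowers a⟩, fun h g => ?_⟩
      have : Subgroup.zpowers a ≤ MulAction.stabilizer G x := by
        rw [Subgroup.zpowers_le]; exact h
      exact this g.2
    rw [hfix, hV] at hmod
    obtain ⟨i, hi4, hi⟩ := (Nat.dvd_prime_pow Nat.prime_three).1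
      (hV ▸ AddSubgroup.card_addSubgroup_dvd_card T.ker)
    change (3 ^ 4 : ℕ) ≡ Nat.card T.ker [MOD 13] at hmod
    rw [hi] at hmod
    have hi1 : i = 1 ∨ i = 4 := by
      interval_cases i <;> simp_all [Nat.ModEq]
    rcases hi1 with rfl | rfl
    swap
    · have htop := AddSubgroup.eq_top_of_card_eq T.ker (by rw [hi, hV])
      have : a = 1 := FaithfulSMul.eq_of_smul_eq_smul (α := V) fun x => by
        rw [one_smul]
        have : x ∈ T.ker := by rw [htop]; trivial
        rwa [AddMonoidHom.mem_ker, hTapply, sub_eq_zero] at this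
      rw [this, orderOf_one] at ha
      norm_num at ha
    obtain ⟨f, hf, hf0⟩ : ∃ f ∈ T.ker, f ≠ 0 := by
      refine (AddSubgroup.bot_or_exists_ne_zero T.ker).resolve_left fun e => ?_
      rw [e, AddSubgroup.card_bot] at hi
      norm_num at hi
    have hrange : Nat.card T.range = 27 := by
      have h3 : T.ker.index = Nat.card T.range :=
        Nat.card_congr (QuotientAddGroup.quotientKerEquivRange T).toEquiv
      have h4 := T.ker.card_mul_index
      rw [h3, hi, hV] at h4
      omega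
    set X := AddSubgroup.zmultiples f with hX
    have hcardX : Nat.card X = 3 := by
      rw [hX, Nat.card_zmultiples]
      exact addOrderOf_eq_prime (hel f) hf0
    have hle : T.range ≤ hβ.perp X := by
      rintro _ ⟨w, rfl⟩ x hx
      have hxk : x ∈ T.ker := (AddSubgroup.zmultiples_le.2 hf) hx
      rw [AddMonoidHom.mem_ker, hTapply, sub_eq_zero] at hxk
      have e : β x (a • w - w) * β x w = β x w := by
        rw [← hβ.add_right, sub_add_cancel]
        calc β x (a • w) = β (a • x) (a • w) := by rw [hxk]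
          _ = β x w := hexact a x w
      have hne : β x w ≠ 0 := fun h0 => by
        have := hβ.swap x w
        rw [h0, zero_mul] at this
        exact zero_ne_one this
      rw [hTapply]
      exact mul_left_eq_self₀.1 e |>.resolve_right hne
    have hperp27 : Nat.card (hβ.perp X) ≤ 27 := by
      obtain ⟨j, hj4, hj⟩ := (Nat.dvd_prime_pow Nat.prime_three).1
        (hV ▸ AddSubgroup.card_addSubgroup_dvd_card (hβ.perp X))
      rw [hj]
      by_contra hlt
      have : j = 4 := by
        interval_cases j <;> simp_all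
      subst this
      have htop := AddSubgroup.eq_top_of_card_eq (hβ.perp X) (by rw [hj, hV])
      exact hf0 (hβ.nondeg f fun y => (show y ∈ hβ.perp X by rw [htop]; trivial) f
        (AddSubgroup.mem_zmultiples f))
    have heq : T.range = hβ.perp X :=
      AddSubgroup.eq_of_le_of_card_ge hle (by rw [hrange]; exact hperp27)
    have hfP : f ∈ hβ.perp X := by
      intro x hx
      obtain ⟨k, rfl⟩ := hx
      rcases k with m | m
      · show β ((m : ℤ) • f) f = 1
        rw [natCast_zsmul, hβ.nsmul_left, hβ.self, one_pow]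
      · show β (Int.negSucc m • f) f = 1
        rw [negSucc_zsmul]
        exact hβ.neg_left (by rw [hβ.nsmul_left, hβ.self, one_pow])
    rw [← heq] at hfP
    obtain ⟨w, hw⟩ := hfP
    rw [hTapply] at hw
    have hfa : a • f = f := sub_eq_zero.1 (by rw [← hTapply]; exact hf)
    have hiter : ∀ k : ℕ, a ^ k • w = w + k • f := by
      intro k
      induction k with
      | zero => simp
      | succ k ih =>
        rw [pow_succ', mul_smul, ih, smul_add, smul_comm a k f, hfa, ← sub_add_cancel (a • w) w, hw,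
          succ_nsmul]
        abel
    have h13f := hiter 13
    rw [← ha, pow_orderOf_eq_one, one_smul, ha, left_eq_add] at h13f
    refine hf0 ?_
    calc f = 13 • f - 4 • (3 • f) := by
          rw [← mul_smul, eq_sub_iff_add_eq, ← succ_nsmul']
          norm_num
      _ = 0 := by rw [h13f, hel, smul_zero, sub_zero]
  have h35 : Nat.card G ∣ 3 ^ 6 * 5 :=
    ((Nat.Prime.coprime_iff_not_dvd (by norm_num)).2 h13).symm.dvd_of_dvd_mul_left h2
  obtain ⟨P⟩ := (inferInstance : Nonempty (Sylow 3 G))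
  have hidx5 : (P : Subgroup G).index ∣ 5 := by
    have hnd : ¬ 3 ∣ (P : Subgroup G).index := P.not_dvd_index
    exact (Nat.Coprime.pow_right 6
      ((Nat.Prime.coprime_iff_not_dvd Nat.prime_three).2 hnd).symm).dvd_of_dvd_mul_left
        ((Subgroup.index_dvd_card _).trans h35)
  have hn1 : Nat.card (Sylow 3 G) = 1 := by
    rcases (Nat.dvd_prime (by norm_num : Nat.Prime 5)).1 (P.card_dvd_index.trans hidx5) with h | h
    · exact h
    · have := card_sylow_modEq_one 3 G
      rw [h] at this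
      simp [Nat.ModEq] at this
  haveI : Subsingleton (Sylow 3 G) := (Nat.card_eq_one_iff_unique.1 hn1).1
  haveI hPn : (P : Subgroup G).Normal := Sylow.normal_of_subsingleton P
  have hP1 : (P : Subgroup G) = ⊥ := (Subgroup.eq_bot_iff_forall _).2 fun g hg =>
    FaithfulSMul.eq_of_smul_eq_smul (α := V) fun x => by
      rw [one_smul]; exact pGroup_normal_trivial hV hcr _ P.isPGroup' g hg x
  rwa [hP1, Subgroup.index_bot] at hidx5

end Linear

end CfsgLib.Perm.OddBase
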