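import Cfsg.Agent.Lib.Perm.OddBase.Idem
import Cfsg.Agent.Lib.Perm.OddBase.SmallImage
import Cfsg.Agent.Lib.Perm.OddBase.Count
import Cfsg.Agent.Lib.Perm.OddBase.Arith

/-!
# Bases of size two: every abelian normal subgroup spans a field
-/

namespace CfsgLib.Perm.OddBase

universe u

open Finset
open scoped commutatorElement

/-- A group acting on `W` gives a faithful image. -/
theorem card_image_le {G W : Type u} [Group G] [Finite G] [AddCommGroup W] [Finite W]
    [DistribMulAction G W] [FaithfulSMul G W] (h : HasPair G W) :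
    Nat.card G ≤ Nat.card W * Nat.card W := by
  obtain ⟨v, w, hvw⟩ := h
  rw [← Nat.card_prod]
  refine Nat.card_le_card_of_injective (fun g => (g • v, g • w)) ?_
  intro a b hab
  simp only [Prod.mk.injEq] at hab
  have := hvw (b⁻¹ * a) (by rw [mul_smul, hab.1, inv_smul_smul])
    (by rw [mul_smul, hab.2, inv_smul_smul])
  have e : b⁻¹ * a = 1 := FaithfulSMul.eq_of_smul_eq_smul (α := W) fun x => by rw [this, one_smul]
  exact (inv_mul_eq_one.1 e).symm

theorem sq_lt_four_pow (d : ℕ) : d * d < 4 ^ d := by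
  induction d with
  | zero => norm_num
  | succ d ih =>
    have : 1 ≤ 4 ^ d := Nat.one_le_pow _ _ (by norm_num)
    have h2 : d ≤ d * d := Nat.le_mul_self d
    rw [pow_succ]
    nlinarith

variable {G V : Type u} [Group G] [Finite G] [AddCommGroup V] [Finite V] [DistribMulAction G V]

/-- The field case. -/
theorem hasPair_of_field [FaithfulSMul G V] [Nontrivial V] [Group.IsSolvable G]
    (hodd : Odd (Nat.card G)) (IH : PairBelow.{u} (Nat.card V))
    (hfield : ∀ N : Subgroup G, N.Normal → (∀ a ∈ N, ∀ b ∈ N, a * b = b * a) →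
      ∀ r : AddMonoid.End V, r ∈ spanRing N → r ≠ 0 → Function.Injective r) :
    HasPair G V := by
  classical
  haveI : Fintype G := Fintype.ofFinite G
  haveI : Finite (AddMonoid.End V) :=
    Finite.of_injective (β := V → V) _ DFunLike.coe_injective
  obtain ⟨U, ⟨hUn, hUab⟩, hUmax⟩ := Set.exists_max_image
    {N : Subgroup G | N.Normal ∧ ∀ a ∈ N, ∀ b ∈ N, a * b = b * a}
    (fun N => Nat.card N) (Set.toFinite _) ⟨⊥, inferInstance, fun a ha b hb => by
      rw [Subgroup.mem_bot.1 ha, Subgroup.mem_bot.1 hb]⟩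
  haveI := hUn
  have hUtop : ∀ N : Subgroup G, N.Normal → (∀ a ∈ N, ∀ b ∈ N, a * b = b * a) → U ≤ N → N = U :=
    fun N h1 h2 h3 => (Subgroup.eq_of_le_of_card_ge h3 (hUmax N ⟨h1, h2⟩)).symm
  -- the field
  set R := spanRing (V := V) U with hR
  letI : CommRing R :=
    { (inferInstance : Ring R) with
      mul_comm := fun a b => Subtype.ext (spanRing_comm hUab a.2 b.2) }
  haveI : Nontrivial R := ⟨⟨0, 1, fun e => by
    obtain ⟨x, hx⟩ := exists_ne (0 : V)
    exact hx (DFunLike.congr_fun (congrArg Subtype.val e) x).symm⟩⟩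
  haveI : NoZeroDivisors R := ⟨fun {a b} hab => by
    by_contra hne
    push Not at hne
    refine hne.2 (Subtype.ext (AddMonoidHom.ext fun x => ?_))
    have hinj := hfield U hUn hUab a.1 a.2 (fun e => hne.1 (Subtype.ext e))
    refine hinj ?_
    have h2 := DFunLike.congr_fun (congrArg Subtype.val hab) x
    change a.1 (b.1 x) = 0 at h2
    exact h2.trans (map_zero a.1).symm⟩
  haveI : IsDomain R := NoZeroDivisors.to_isDomain _
  letI : Field R := (Finite.isField_of_domain R).toField
  haveI : Fintype R := Fintype.ofFinite R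
  letI : Module R V := Module.compHom V R.subtype
  have hsmul : ∀ (k : R) (x : V), k • x = k.1 x := fun _ _ => rfl
  let ψ : ∀ g, g ∈ U → R := fun g hg => ⟨op g, op_mem_spanRing hg⟩
  have hψ : ∀ g (hg : g ∈ U) (x : V), ψ g hg • x = g • x := fun _ _ _ => rfl
  have hψinj : ∀ g (hg : g ∈ U), ψ g hg = 1 → g = 1 := fun g hg e =>
    FaithfulSMul.eq_of_smul_eq_smul (α := V) fun x => by
      rw [← hψ g hg, e, one_smul, one_smul]
  have hsmul0 : ∀ (k : R) (x : V), k • x = 0 → k = 0 ∨ x = 0 := fun k x h => smul_eq_zero.1 h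
  -- conjugation
  let cj : G → R → R := fun g k => ⟨op g * k.1 * op g⁻¹, spanRing_conj g k.2⟩
  have hcj : ∀ g k (x : V), g • (k • x) = cj g k • (g • x) := fun g k x => by
    show g • k.1 x = g • k.1 (g⁻¹ • g • x)
    rw [inv_smul_smul]
  set C := Subgroup.centralizer (U : Set G) with hCdef
  have hUC : U ≤ C := fun u hu => Subgroup.mem_centralizer_iff.2 fun v hv => hUab v hv u hu
  haveI hCn : C.Normal := ⟨fun c hc g => Subgroup.mem_centralizer_iff.2 fun u hu => by
    have h2 := Subgroup.mem_centralizer_iff.1 hc (g⁻¹ * u * g)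
      (by simpa using Subgroup.Normal.conj_mem hUn u hu g⁻¹)
    calc u * (g * c * g⁻¹) = g * ((g⁻¹ * u * g) * c) * g⁻¹ := by group
      _ = g * (c * (g⁻¹ * u * g)) * g⁻¹ := by rw [h2]
      _ = g * c * g⁻¹ * u := by group⟩
  have hCu : ∀ c ∈ C, ∀ u ∈ U, c * u = u * c := fun c hc u hu =>
    (Subgroup.mem_centralizer_iff.1 hc u hu).symm
  have hClin : ∀ c ∈ C, ∀ (k : R) (x : V), c • (k • x) = k • (c • x) := by
    rintro c hc ⟨k, hk⟩ x
    show c • k x = k (c • x)
    induction hk using Subring.closure_induction generalizing x with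
    | mem y hy =>
      obtain ⟨u, hu, rfl⟩ := hy
      show c • u • x = u • c • x
      rw [smul_smul, smul_smul, hCu c hc u hu]
    | zero => simp
    | one => simp
    | add a b _ _ ha hb =>
      show c • (a x + b x) = a (c • x) + b (c • x)
      rw [smul_add, ha, hb]
    | neg a _ ha =>
      show c • (-(a x)) = -(a (c • x))
      rw [smul_neg, ha]
    | mul a b _ _ ha hb =>
      show c • a (b x) = a (b (c • x))
      rw [ha, hb]
  -- a generator
  obtain ⟨θu, hθu⟩ := IsCyclic.exists_generator (α := Rˣ)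
  set θ : R := (θu : R) with hθ
  have hθC : ∀ g : G, cj g θ = θ → g ∈ C := by
    intro g hg
    have hpow : ∀ n : ℕ, ∀ x : V, g • (θ ^ n • x) = θ ^ n • (g • x) := by
      intro n
      induction n with
      | zero => intro x; rw [pow_zero, one_smul, one_smul]
      | succ n ih => intro x; rw [pow_succ, mul_smul, ih, hcj, hg, mul_smul]
    refine Subgroup.mem_centralizer_iff.2 fun u hu => ?_
    have hψ0 : ψ u hu ≠ 0 := fun e => by
      obtain ⟨x, hx⟩ := exists_ne (0 : V)
      refine hx ((smul_eq_zero_iff_eq u).1 ?_)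
      rw [← hψ u hu, e]
      exact zero_smul R x
    obtain ⟨n, hn⟩ : ∃ n : ℕ, ψ u hu = θ ^ n := by
      obtain ⟨n, hn⟩ := (mem_powers_iff_mem_zpowers (x := θu)).2 (hθu (Units.mk0 _ hψ0))
      refine ⟨n, ?_⟩
      have := congrArg Units.val hn
      simpa [hθ] using this.symm
    refine FaithfulSMul.eq_of_smul_eq_smul (α := V) fun x => ?_
    rw [mul_smul, mul_smul, ← hψ u hu, ← hψ u hu, hn, hpow]
  -- the subgroup `M`
  obtain ⟨M, ⟨hMn, hUM, hMC, hMcomm⟩, hMmax⟩ := Set.exists_max_image
    {M : Subgroup G | M.Normal ∧ U ≤ M ∧ M ≤ C ∧ ∀ a ∈ M, ∀ b ∈ M, ⁅a, b⁆ ∈ U}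
    (fun M => Nat.card M) (Set.toFinite _) ⟨U, hUn, le_rfl, hUC, fun a ha b hb => by
      rw [commutatorElement_eq_one_iff_mul_comm.2 (hUab a ha b hb)]; exact U.one_mem⟩
  haveI := hMn
  have hD : C ⊓ Subgroup.centralizer (M : Set G) ≤ U := by
    set D := C ⊓ Subgroup.centralizer (M : Set G) with hDdef
    haveI : (Subgroup.centralizer (M : Set G)).Normal := ⟨fun c hc g =>
      Subgroup.mem_centralizer_iff.2 fun u hu => by
        have h2 := Subgroup.mem_centralizer_iff.1 hc (g⁻¹ * u * g)
          (by simpa using Subgroup.Normal.conj_mem hMn u hu g⁻¹)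
        calc u * (g * c * g⁻¹) = g * ((g⁻¹ * u * g) * c) * g⁻¹ := by group
          _ = g * (c * (g⁻¹ * u * g)) * g⁻¹ := by rw [h2]
          _ = g * c * g⁻¹ * u := by group⟩
    haveI hDn : D.Normal := Subgroup.normal_inf_normal _ _
    by_contra hne
    obtain ⟨S, hS0, hSsucc⟩ : ∃ S : ℕ → Subgroup G, S 0 = D ∧ ∀ n, S (n + 1) = ⁅S n, S n⁆ :=
      ⟨fun n => Nat.rec D (fun _ A => ⁅A, A⁆) n, rfl, fun _ => rfl⟩
    have hSn : ∀ n, (S n).Normal ∧ S n ≤ D ∧ S n ≤ derivedSeries G n := by
      intro n
      induction n with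
      | zero => rw [hS0]; exact ⟨hDn, le_rfl, le_top⟩
      | succ n ih =>
        haveI := ih.1
        rw [hSsucc]
        refine ⟨Subgroup.commutator_normal _ _, ?_, ?_⟩
        · have h1 : ⁅S n, S n⁆ ≤ S n := Subgroup.commutator_le_left (H₁ := S n) (H₂ := S n)
          exact le_trans h1 ih.2.1
        · exact Subgroup.commutator_mono ih.2.2 ih.2.2
    obtain ⟨N0, hN0⟩ := Group.IsSolvable.solvable (G := G)
    have hbot : S N0 ≤ U := ((hSn N0).2.2.trans hN0.le).trans bot_le
    obtain ⟨i, hi, hi'⟩ : ∃ i, ¬ S i ≤ U ∧ S (i + 1) ≤ U := by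
      by_contra hall
      push Not at hall
      have : ∀ i, ¬ S i ≤ U := fun i => by
        induction i with
        | zero => rw [hS0]; exact hne
        | succ i ih => exact hall i ih
      exact this N0 hbot
    haveI := (hSn i).1
    set N := U ⊔ S i with hNdef
    haveI hNn : N.Normal := Subgroup.sup_normal _ _
    have hND : ∀ x ∈ N, ∀ m ∈ M, x * m = m * x := by
      intro x hx m hm
      obtain ⟨u, hu, d, hd, rfl⟩ := Subgroup.mem_sup_of_normal_right.1 hx
      have e1 : d * m = m * d :=
        (Subgroup.mem_centralizer_iff.1 ((hSn i).2.1 hd).2 m hm).symm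
      have e2 : u * m = m * u := (hCu m (hMC hm) u hu).symm
      rw [mul_assoc, e1, ← mul_assoc, e2, mul_assoc]
    have hNC : N ≤ C := sup_le hUC ((hSn i).2.1.trans inf_le_left)
    have hcN : ∀ a ∈ N, ∀ b ∈ N, ⁅a, b⁆ ∈ U := by
      intro a ha b hb
      obtain ⟨u, hu, d, hd, rfl⟩ := Subgroup.mem_sup_of_normal_right.1 ha
      obtain ⟨v, hv, f, hf, rfl⟩ := Subgroup.mem_sup_of_normal_right.1 hb
      have hdC := ((hSn i).2.1 hd).1
      have hfC := ((hSn i).2.1 hf).1
      have : ⁅u * d, v * f⁆ = ⁅d, f⁆ := by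
        have e1 : u * d * (v * f) = (u * v) * (d * f) := by
          rw [mul_assoc u d, ← mul_assoc d v f, hCu d hdC v hv]; group
        have e2 : v * f * (u * d) = (u * v) * (f * d) := by
          rw [mul_assoc v f, ← mul_assoc f u d, hCu f hfC u hu, hUab u hu v hv]; group
        calc ⁅u * d, v * f⁆ = (u * d * (v * f)) * (v * f * (u * d))⁻¹ := by
              rw [commutatorElement_def]; group
          _ = ((u * v) * (d * f)) * ((u * v) * (f * d))⁻¹ := by rw [e1, e2]
          _ = (u * v) * (⁅d, f⁆ * (u * v)⁻¹) := by rw [commutatorElement_def]; group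
          _ = ⁅d, f⁆ * (u * v)⁻¹ * (u * v) := by
              have hdf : ⁅d, f⁆ ∈ U := hi' (hSsucc i ▸ Subgroup.commutator_mem_commutator hd hf)
              exact hUab _ (U.mul_mem hu hv) _
                (U.mul_mem hdf (U.inv_mem (U.mul_mem hu hv)))
          _ = ⁅d, f⁆ := by group
      rw [this]
      exact hi' (hSsucc i ▸ Subgroup.commutator_mem_commutator hd hf)
    haveI : (M ⊔ N).Normal := Subgroup.sup_normal _ _
    have hMN : M ⊔ N = M := (Subgroup.eq_of_le_of_card_ge le_sup_left (hMmax _ ⟨inferInstance,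
      hUM.trans le_sup_left, sup_le hMC hNC, by
        intro a ha b hb
        obtain ⟨m, hm, n, hn, rfl⟩ := Subgroup.mem_sup_of_normal_right.1 ha
        obtain ⟨m', hm', n', hn', rfl⟩ := Subgroup.mem_sup_of_normal_right.1 hb
        have e : ⁅m * n, m' * n'⁆ = ⁅m, m'⁆ * ⁅n, n'⁆ := by
          have a1 : m * n * (m' * n') = m * m' * (n * n') := by
            rw [mul_assoc m n, ← mul_assoc n m' n', hND n hn m' hm']; group
          have a2 : m' * n' * (m * n) = m' * m * (n' * n) := by
            rw [mul_assoc m' n', ← mul_assoc n' m n, hND n' hn' m hm]; group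
          have a3 : ⁅n, n'⁆ * (m' * m)⁻¹ = (m' * m)⁻¹ * ⁅n, n'⁆ :=
            (hCu _ (C.inv_mem (C.mul_mem (hMC hm') (hMC hm))) _ (hcN n hn n' hn')).symm
          calc ⁅m * n, m' * n'⁆ = (m * n * (m' * n')) * (m' * n' * (m * n))⁻¹ := by
                rw [commutatorElement_def]; group
            _ = (m * m' * (n * n')) * (m' * m * (n' * n))⁻¹ := by rw [a1, a2]
            _ = m * m' * (⁅n, n'⁆ * (m' * m)⁻¹) := by rw [commutatorElement_def]; group
            _ = m * m' * ((m' * m)⁻¹ * ⁅n, n'⁆) := by rw [a3]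
            _ = ⁅m, m'⁆ * ⁅n, n'⁆ := by rw [commutatorElement_def m m']; group
        rw [e]
        exact U.mul_mem (hMcomm m hm m' hm') (hcN n hn n' hn')⟩)).symm
    have hNM : N ≤ M := hMN ▸ le_sup_right
    exact hi ((le_sup_right : S i ≤ N).trans
      (hUtop N hNn (fun a ha b hb => hND a ha b (hNM hb)) le_sup_left).le)
  -- the quotient `W = M / U`
  haveI : (U.subgroupOf M).Normal := Subgroup.Normal.subgroupOf hUn M
  letI : CommGroup (M ⧸ U.subgroupOf M) :=
    { (inferInstance : Group (M ⧸ U.subgroupOf M)) with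
      mul_comm := fun a b => by
        induction a using QuotientGroup.induction_on with
        | _ a =>
        induction b using QuotientGroup.induction_on with
        | _ b =>
        rw [← QuotientGroup.mk_mul, ← QuotientGroup.mk_mul, QuotientGroup.eq,
          Subgroup.mem_subgroupOf]
        have := hMcomm _ (inv_mem b.2) _ (inv_mem a.2)
        have e : (((a * b)⁻¹ * (b * a) : M) : G) = ⁅(b : G)⁻¹, (a : G)⁻¹⁆ := by
          push_cast
          rw [commutatorElement_def]; group
        rw [e]; exact this }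
  let W := Additive (M ⧸ U.subgroupOf M)
  let mk : M → W := fun m => Additive.ofMul (QuotientGroup.mk m)
  have mk_surj : ∀ w : W, ∃ m, mk m = w := fun w =>
    QuotientGroup.mk_surjective (Additive.toMul w)
  have mk_eq_zero : ∀ m : M, mk m = 0 ↔ (m : G) ∈ U := fun m => by
    show QuotientGroup.mk m = (1 : M ⧸ U.subgroupOf M) ↔ _
    rw [QuotientGroup.eq_one_iff, Subgroup.mem_subgroupOf]
  let cq : G → (M ⧸ U.subgroupOf M →* M ⧸ U.subgroupOf M) := fun g =>
    QuotientGroup.map _ _ (MulAut.conjNormal g : MulAut M).toMonoidHom (by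
      intro m hm
      rw [Subgroup.mem_subgroupOf] at hm
      show ((MulAut.conjNormal g m : M) : G) ∈ U
      rw [MulAut.conjNormal_apply]
      exact Subgroup.Normal.conj_mem hUn _ hm g)
  have hcq : ∀ g (m : M), cq g (QuotientGroup.mk m) =
      QuotientGroup.mk (MulAut.conjNormal g m : M) := fun _ _ => rfl
  letI actW : DistribMulAction G W :=
    { smul := fun g w => Additive.ofMul (cq g (Additive.toMul w))
      one_smul := fun w => by
        obtain ⟨m, rfl⟩ := mk_surj w
        show Additive.ofMul (QuotientGroup.mk (MulAut.conjNormal (1 : G) m : M)) = _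
        rw [map_one]; rfl
      mul_smul := fun g k w => by
        obtain ⟨m, rfl⟩ := mk_surj w
        show Additive.ofMul (QuotientGroup.mk (MulAut.conjNormal (g * k) m : M)) = _
        rw [map_mul]; rfl
      smul_zero := fun g => congrArg Additive.ofMul (map_one (cq g))
      smul_add := fun g v w => congrArg Additive.ofMul (map_mul (cq g) _ _) }
  have hactW : ∀ g (m : M), g • mk m = mk (MulAut.conjNormal g m) := fun _ _ => rfl
  let bK : M → M → R := fun a b => ψ ⁅(a : G), (b : G)⁆ (hMcomm _ a.2 _ b.2)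
  have hψmul : ∀ a ha b hb, ψ (a * b) (U.mul_mem ha hb) = ψ a ha * ψ b hb := fun a ha b hb =>
    Subtype.ext (AddMonoidHom.ext fun x => mul_smul a b x)
  have hψone : ∀ a (ha : a ∈ U), a = 1 → ψ a ha = 1 := fun a ha e => by
    subst e
    exact Subtype.ext (AddMonoidHom.ext fun x => one_smul G x)
  have hψcongr : ∀ a ha b hb, a = b → ψ a ha = ψ b hb := fun a ha b hb e => by subst e; rfl
  have hleft : ∀ a b c : M, bK (a * b) c = bK a c * bK b c := by
    intro a b c
    show ψ _ (hMcomm _ (a * b).2 _ c.2) =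
      ψ _ (hMcomm _ a.2 _ c.2) * ψ _ (hMcomm _ b.2 _ c.2)
    rw [← hψmul _ (hMcomm _ a.2 _ c.2) _ (hMcomm _ b.2 _ c.2)]
    refine Subtype.ext (congrArg (fun g : G => (op g : AddMonoid.End V)) ?_)
    have e := hCu (a : G) (hMC a.2) _ (hMcomm _ b.2 _ c.2)
    calc ⁅((a * b : M) : G), (c : G)⁆ = ((a : G) * ⁅(b : G), (c : G)⁆) * (a : G)⁻¹ *
          ⁅(a : G), (c : G)⁆ := by
            push_cast
            rw [commutatorElement_def, commutatorElement_def, commutatorElement_def]; group
      _ = ⁅(b : G), (c : G)⁆ * ⁅(a : G), (c : G)⁆ := by rw [e]; group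
      _ = _ := hUab _ (hMcomm _ b.2 _ c.2) _ (hMcomm _ a.2 _ c.2)
  have hswap : ∀ a b : M, bK a b * bK b a = 1 := fun a b => by
    show ψ _ (hMcomm _ a.2 _ b.2) * ψ _ (hMcomm _ b.2 _ a.2) = 1
    rw [← hψmul _ (hMcomm _ a.2 _ b.2) _ (hMcomm _ b.2 _ a.2)]
    exact hψone (⁅(a : G), (b : G)⁆ * ⁅(b : G), (a : G)⁆)
      (U.mul_mem (hMcomm _ a.2 _ b.2) (hMcomm _ b.2 _ a.2))
      (by rw [← commutatorElement_inv (b : G) (a : G), inv_mul_cancel])
  have hnull : ∀ u b : M, (u : G) ∈ U → bK u b = 1 := fun u b hu =>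
    hψone _ (hMcomm _ u.2 _ b.2)
      (commutatorElement_eq_one_iff_mul_comm.2 ((hCu _ (hMC b.2) _ hu).symm))
  have hnull' : ∀ u b : M, (u : G) ∈ U → bK b u = 1 := fun u b hu => by
    have := hswap b u
    rwa [hnull u b hu, mul_one] at this
  have hright : ∀ a b c : M, bK a (b * c) = bK a b * bK a c := fun a b c => by
    have h1 := hswap a (b * c)
    rw [hleft] at h1
    calc bK a (b * c) = bK a (b * c) * ((bK a b * bK b a) * (bK a c * bK c a)) := by
          rw [hswap, hswap, mul_one, mul_one]
      _ = bK a (b * c) * (bK b a * bK c a) * (bK a b * bK a c) := by ring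
      _ = bK a b * bK a c := by rw [h1, one_mul]
  let β : W → W → R := fun v w => Quotient.liftOn₂ (Additive.toMul v) (Additive.toMul w) bK (by
    intro a b a' b' ha hb
    replace ha := QuotientGroup.leftRel_apply.1 ha
    replace hb := QuotientGroup.leftRel_apply.1 hb
    rw [Subgroup.mem_subgroupOf] at ha hb
    obtain ⟨u, rfl⟩ : ∃ u, a' = a * u := ⟨a⁻¹ * a', by group⟩
    obtain ⟨v, rfl⟩ : ∃ v, b' = b * v := ⟨b⁻¹ * b', by group⟩
    rw [inv_mul_cancel_left] at ha hb
    rw [hleft, hright, hright, hnull u _ ha, hnull u _ ha, hnull' v _ hb]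
    simp only [mul_one])
  have hβmk : ∀ a b, β (mk a) (mk b) = bK a b := fun _ _ => rfl
  have hbK1 : ∀ a b : M, bK a b = 1 ↔ ⁅(a : G), (b : G)⁆ = 1 := fun a b =>
    ⟨fun h => hψinj _ (hMcomm _ a.2 _ b.2) h, fun h => hψone _ (hMcomm _ a.2 _ b.2) h⟩
  have hconjcomm : ∀ (g : G) (a b : M),
      ⁅((MulAut.conjNormal g a : M) : G), ((MulAut.conjNormal g b : M) : G)⁆ =
        g * ⁅(a : G), (b : G)⁆ * g⁻¹ := fun g a b => by
    rw [MulAut.conjNormal_apply, MulAut.conjNormal_apply, commutatorElement_def,
      commutatorElement_def]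
    group
  have hpair : IsPairing G β :=
    { add_left := fun x y z => by
        obtain ⟨a, rfl⟩ := mk_surj x
        obtain ⟨b, rfl⟩ := mk_surj y
        obtain ⟨c, rfl⟩ := mk_surj z
        show β (mk (a * b)) (mk c) = _
        rw [hβmk, hβmk, hβmk, hleft]
      add_right := fun x y z => by
        obtain ⟨a, rfl⟩ := mk_surj x
        obtain ⟨b, rfl⟩ := mk_surj y
        obtain ⟨c, rfl⟩ := mk_surj z
        show β (mk a) (mk (b * c)) = _
        rw [hβmk, hβmk, hβmk, hright]
      self := fun x => by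
        obtain ⟨a, rfl⟩ := mk_surj x
        exact (hbK1 a a).2 (commutatorElement_self _)
      nondeg := fun x hx => by
        obtain ⟨a, rfl⟩ := mk_surj x
        refine (mk_eq_zero a).2 (hD ⟨hMC a.2, Subgroup.mem_centralizer_iff.2 fun m hm => ?_⟩)
        exact (commutatorElement_eq_one_iff_mul_comm.1 ((hbK1 a ⟨m, hm⟩).1 (hx (mk ⟨m, hm⟩)))).symm
      invariant := fun g x y h => by
        obtain ⟨a, rfl⟩ := mk_surj x
        obtain ⟨b, rfl⟩ := mk_surj y
        rw [hactW, hactW, hβmk, hbK1, hconjcomm]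
        rw [hβmk, hbK1] at h
        rw [h, mul_one, mul_inv_cancel]
      no_isotropic := fun Y hY hiso => by
        set N : Subgroup G :=
          { carrier := {g | ∃ h : g ∈ M, mk ⟨g, h⟩ ∈ Y}
            one_mem' := ⟨M.one_mem, Y.zero_mem⟩
            mul_mem' := fun {a b} ⟨ha, ha'⟩ ⟨hb, hb'⟩ => ⟨M.mul_mem ha hb, Y.add_mem ha' hb'⟩
            inv_mem' := fun {a} ⟨ha, ha'⟩ => ⟨M.inv_mem ha, Y.neg_mem ha'⟩ } with hN
        have hNeq : N = U := by
          refine hUtop N ⟨fun n ⟨hn, hn'⟩ g => ⟨Subgroup.Normal.conj_mem hMn n hn g, ?_⟩⟩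
            (fun a ⟨ha, ha'⟩ b ⟨hb, hb'⟩ => ?_)
            (fun u hu => ⟨hUM hu, by rw [(mk_eq_zero ⟨u, hUM hu⟩).2 hu]; exact Y.zero_mem⟩)
          · have e : (MulAut.conjNormal g ⟨n, hn⟩ : M) =
                ⟨g * n * g⁻¹, Subgroup.Normal.conj_mem hMn n hn g⟩ :=
              Subtype.ext (MulAut.conjNormal_apply g ⟨n, hn⟩)
            exact e ▸ hY g _ hn'
          · exact commutatorElement_eq_one_iff_mul_comm.1
              ((hbK1 ⟨a, ha⟩ ⟨b, hb⟩).1 (hiso _ ha' _ hb'))
        refine (AddSubgroup.eq_bot_iff_forall _).2 fun x hx => ?_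
        obtain ⟨a, rfl⟩ := mk_surj x
        exact (mk_eq_zero a).2 (hNeq ▸ (⟨a.2, hx⟩ : (a : G) ∈ N)) }
  have hexact : ∀ c ∈ C, ∀ x y : W, β (c • x) (c • y) = β x y := by
    intro c hc x y
    obtain ⟨a, rfl⟩ := mk_surj x
    obtain ⟨b, rfl⟩ := mk_surj y
    rw [hactW, hactW, hβmk, hβmk]
    refine Subtype.ext (congrArg (fun g : G => (op g : AddMonoid.End V)) ?_)
    rw [hconjcomm, hCu c hc _ (hMcomm _ a.2 _ b.2)]
    group
  -- sizes
  obtain ⟨e, hWe⟩ := hpair.card_square
  set d := Module.finrank R V with hd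
  have hed : e ≤ d := by
    haveI : Fintype W := Fintype.ofFinite W
    haveI : Module.Finite R V := Module.Finite.of_finite
    choose s hs using (fun w : W => mk_surj w)
    let L : W → (V →ₗ[R] V) := fun w =>
      { toFun := fun x => ((s w : M) : G) • x
        map_add' := fun x y => smul_add _ x y
        map_smul' := fun k x => hClin _ (hMC (s w).2) k x }
    have hli : LinearIndependent R L := by
      rw [Fintype.linearIndependent_iff]
      intro c hc w0
      by_contra hne
      obtain ⟨x, hx⟩ := exists_ne (0 : V)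
      have hx' : ((s w0 : M) : G) • x ≠ 0 := fun h => hx ((smul_eq_zero_iff_eq _).1 h)
      obtain ⟨f, hf⟩ : ∃ f : Module.Dual R V, f (((s w0 : M) : G) • x) ≠ 0 := by
        by_contra hall
        push Not at hall
        exact hx' ((Module.forall_dual_apply_eq_zero_iff R _).1 hall)
      let χ : W → (Multiplicative W →* R) := fun w =>
        { toFun := fun y => β w (Multiplicative.toAdd y)
          map_one' := hpair.zero_right w
          map_mul' := fun a b => hpair.add_right w _ _ }
      have hχ : Function.Injective χ := by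
        intro a b hab
        refine sub_eq_zero.1 (hpair.nondeg _ fun w => ?_)
        have e : β a w = β b w := DFunLike.congr_fun hab (Multiplicative.ofAdd w)
        rw [sub_eq_add_neg, hpair.add_left, e, ← hpair.add_left, add_neg_cancel,
          hpair.zero_left]
      have hind := (linearIndependent_monoidHom (Multiplicative W) R).comp χ hχ
      rw [Fintype.linearIndependent_iff] at hind
      have key : ∀ y : Multiplicative W,
          ∑ w, (c w * f (((s w : M) : G) • x)) * χ w y = 0 := by
        intro y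
        obtain ⟨m, hm⟩ : ∃ m, mk m = Multiplicative.toAdd y := ⟨s _, hs _⟩
        have h1 : (∑ w, c w • L w) ((m : G) • x) = 0 := by rw [hc]; rfl
        rw [LinearMap.sum_apply] at h1
        have hterm : ∀ w, (c w • L w) ((m : G) • x) =
            (m : G) • ((c w * χ w y) • (((s w : M) : G) • x)) := by
          intro w
          show c w • ((s w : M) : G) • (m : G) • x = _
          have hcomm : ((s w : M) : G) • (m : G) • x =
              bK (s w) m • ((m : G) • ((s w : M) : G) • x) := by
            rw [hψ _ (hMcomm _ (s w).2 _ m.2), smul_smul, smul_smul, smul_smul]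
            congr 1
            rw [commutatorElement_def]; group
          have hχw : χ w y = bK (s w) m := by
            show β w (Multiplicative.toAdd y) = _
            rw [← hm, ← hβmk, hs]
          rw [hcomm, hχw, ← mul_smul, hClin _ (hMC m.2)]
        rw [Finset.sum_congr rfl (fun w _ => hterm w), ← Finset.smul_sum,
          smul_eq_zero_iff_eq] at h1
        have h2 := congrArg f h1
        rw [map_sum, map_zero] at h2
        rw [← h2]
        refine Finset.sum_congr rfl fun w _ => ?_
        rw [LinearMap.map_smul, smul_eq_mul]; ring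
      have := hind (fun w => c w * f (((s w : M) : G) • x)) (funext fun y => by
        rw [Finset.sum_apply]
        exact key y) w0
      exact hne ((mul_eq_zero.1 this).resolve_right hf)
    have := hli.fintype_card_le_finrank
    rw [Module.finrank_linearMap, ← Nat.card_eq_fintype_card, hWe, ← hd] at this
    exact Nat.mul_self_le_mul_self_iff.1 this
  set Q := Nat.card R with hQ
  have hVQ : Nat.card V = Q ^ d := by
    haveI : Fintype V := Fintype.ofFinite V
    rw [hQ, Nat.card_eq_fintype_card, Nat.card_eq_fintype_card, hd]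
    exact Module.card_eq_pow_finrank
  have hWcard : Nat.card W = U.relIndex M := rfl
  have hWodd : Odd (Nat.card W) := by
    rw [hWcard]
    exact Odd.of_dvd_nat (odd_subgroup hodd M) (Subgroup.index_dvd_card _)
  -- fixed points of the elements of `U`
  have hfixU : ∀ g ∈ U, g ≠ 1 → (fixedSub g : AddSubgroup V) = ⊥ := by
    intro g hg hg1
    refine (AddSubgroup.eq_bot_iff_forall _).2 fun v hv => ?_
    have h1 : (ψ g hg - 1) • v = 0 := by
      rw [sub_smul, hψ g hg, one_smul, mem_fixedSub.1 hv, sub_self]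
    exact (hsmul0 _ _ h1).resolve_left fun e => hg1 (hψinj g hg (sub_eq_zero.1 e))
  by_cases he1 : e = 1
  · -- the semilinear case
    subst he1
    have hMU : M ≤ U := fun m hm => by
      rw [← mk_eq_zero ⟨m, hm⟩]
      haveI : Subsingleton W := (Nat.card_eq_one_iff_unique.1 (by rw [hWe])).1
      exact Subsingleton.elim _ _
    have hCU : C ≤ U := fun c hc => hD ⟨hc, Subgroup.mem_centralizer_iff.2 fun m hm =>
      (hCu c hc m (hMU hm)).symm⟩
    obtain ⟨v, hv⟩ := exists_ne (0 : V)
    refine ⟨v, θ • v, fun g h1 h2 x => ?_⟩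
    have hg : g ∈ C := by
      refine hθC g ?_
      rw [hcj, h1] at h2
      have h3 : (cj g θ - θ) • v = 0 := by rw [sub_smul, h2, sub_self]
      exact sub_eq_zero.1 ((hsmul0 _ _ h3).resolve_right hv)
    have : g = 1 := by
      by_contra hne
      exact hv ((AddSubgroup.eq_bot_iff_forall _).1 (hfixU g (hCU hg) hne) v h1)
    rw [this, one_smul]
  have he_odd : Odd e := Odd.of_dvd_nat hWodd ⟨e, hWe⟩
  have he3 : 3 ≤ e := by
    obtain ⟨k, rfl⟩ := he_odd
    omega
  have hp : ∀ p, p.Prime → p ∣ e → p ∣ Q - 1 := by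
    intro p hp hpe
    haveI := Fact.mk hp
    obtain ⟨x, hx⟩ := exists_prime_addOrderOf_dvd_card' (G := W) p (hWe ▸ hpe.trans (dvd_mul_right e e))
    obtain ⟨y, hy⟩ : ∃ y, β x y ≠ 1 := by
      by_contra hall
      push Not at hall
      rw [hpair.nondeg x hall, addOrderOf_zero] at hx
      exact hp.one_lt.ne hx
    have hpow : β x y ^ p = 1 := by
      rw [← hpair.nsmul_left, ← hx, addOrderOf_nsmul_eq_zero, hpair.zero_left]
    have hne0 : β x y ≠ 0 := fun h0 => by
      rw [h0, zero_pow hp.ne_zero] at hpow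
      exact zero_ne_one hpow
    rw [← orderOf_eq_prime hpow hy, hQ, Nat.card_eq_fintype_card]
    exact orderOf_dvd_of_pow_eq_one (FiniteField.pow_card_sub_one_eq_one _ hne0)
  have hQ4 : 4 ≤ Q := by
    have hmin := Nat.minFac_prime (n := e) (by omega)
    have h1 := hp _ hmin e.minFac_dvd
    have h2 : e.minFac ≠ 2 := fun h => by
      have := Odd.of_dvd_nat he_odd e.minFac_dvd
      rw [h] at this
      exact absurd this (by decide)
    have h3 : 2 ≤ Q := by rw [hQ, Nat.card_eq_fintype_card]; exact Fintype.one_lt_card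
    have h4 := Nat.le_of_dvd (by omega) h1
    have h5 := hmin.two_le
    omega
  -- the indices
  set k := C.index with hk
  have hkle : k ≤ Q - 2 := by
    have hwell : ∀ a b : G, a⁻¹ * b ∈ C → cj a θ = cj b θ := by
      intro a b hab
      refine Subtype.ext (AddMonoidHom.ext fun x => ?_)
      show a • θ.1 (a⁻¹ • x) = b • θ.1 (b⁻¹ • x)
      have h1 := hClin _ hab θ (b⁻¹ • x)
      rw [hsmul, hsmul, smul_smul (a⁻¹ * b), mul_assoc, mul_inv_cancel, mul_one, mul_smul] at h1
      rw [← inv_smul_eq_iff.1 h1]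
    let f : G ⧸ C → R := fun q => Quotient.liftOn q (fun g => cj g θ)
      (fun a b hab => hwell a b (QuotientGroup.leftRel_apply.1 hab))
    have hf : Function.Injective f := by
      intro a b
      induction a using QuotientGroup.induction_on with
      | _ a =>
      induction b using QuotientGroup.induction_on with
      | _ b =>
      intro hab
      refine QuotientGroup.eq.2 (hθC _ ?_)
      refine Subtype.ext (AddMonoidHom.ext fun x => ?_)
      have h1 := DFunLike.congr_fun (congrArg Subtype.val hab) (a • x)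
      change a • θ.1 (a⁻¹ • a • x) = b • θ.1 (b⁻¹ • a • x) at h1
      rw [inv_smul_smul] at h1
      show (a⁻¹ * b) • θ.1 ((a⁻¹ * b)⁻¹ • x) = θ.1 x
      rw [mul_inv_rev, inv_inv, mul_smul, mul_smul, ← h1, inv_smul_smul]
    have hθ0 : θ ≠ 0 := θu.ne_zero
    have hθ1 : θ ≠ 1 := by
      intro h1
      have hall : ∀ z : Rˣ, z = 1 := fun z => by
        obtain ⟨n, hn⟩ := hθu z
        rw [← hn, show θu = 1 from Units.ext h1]
        exact one_zpow n
      have hsub : Fintype.card Rˣ = 1 := by
        rw [Fintype.card_eq_one_iff]; exact ⟨1, hall⟩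
      rw [Fintype.card_units, ← Nat.card_eq_fintype_card, ← hQ] at hsub
      omega
    have himg : Set.range f ⊆ ({0, 1}ᶜ : Set R) := by
      rintro _ ⟨q, rfl⟩
      induction q using QuotientGroup.induction_on with
      | _ g =>
      show cj g θ ∉ ({0, 1} : Set R)
      simp only [Set.mem_insert_iff, Set.mem_singleton_iff, not_or]
      constructor
      · intro h0
        obtain ⟨x, hx⟩ := exists_ne (0 : V)
        have h2 := hcj g θ x
        rw [h0] at h2
        replace h2 := (smul_eq_zero_iff_eq g).1 (h2.trans (zero_smul R _))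
        exact hx ((hsmul0 _ _ h2).resolve_left hθ0)
      · intro h0
        obtain ⟨x, hx⟩ := exists_ne (0 : V)
        have h2 := hcj g θ x
        rw [h0, one_smul] at h2
        have h3 : (θ - 1) • x = 0 := by
          rw [sub_smul, one_smul, MulAction.injective g h2, sub_self]
        exact hθ1 (sub_eq_zero.1 ((hsmul0 _ _ h3).resolve_right hx))
    have h01 : ({0, 1} : Set R).ncard = 2 := Set.ncard_pair zero_ne_one
    have := Set.ncard_le_ncard himg (Set.toFinite _)
    rw [Set.ncard_range_of_injective hf, Set.ncard_compl, h01] at this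
    exact this
  set h := M.relIndex C with hh
  have hUcard : Nat.card U ≤ Q - 1 := by
    have hne : ∀ u : U, ψ u u.2 ≠ 0 := fun u h0 => by
      obtain ⟨x, hx⟩ := exists_ne (0 : V)
      refine hx ((smul_eq_zero_iff_eq (u : G)).1 ?_)
      rw [← hψ (u : G) u.2, h0]
      exact zero_smul R x
    have := Nat.card_le_card_of_injective (fun u : U => Units.mk0 (ψ u u.2) (hne u)) (by
      intro a b hab
      refine Subtype.ext (FaithfulSMul.eq_of_smul_eq_smul (α := V) fun x => ?_)
      have := congrArg Units.val hab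
      rw [← hψ _ a.2, ← hψ _ b.2]
      exact congrArg (· • x) this)
    rwa [Nat.card_units, ← hQ] at this
  set X := U.relIndex C with hX
  have hXeq : X = e * e * h := by
    rw [hX, hh, ← hWe, hWcard, Subgroup.relIndex_mul_relIndex U M C hUM hMC]
  have hGeq : Nat.card G = k * X * Nat.card U := by
    rw [hk, hX, ← C.card_mul_index, ← Subgroup.card_mul_index (U.subgroupOf C),
      Nat.card_congr (Subgroup.subgroupOfEquivOfLe hUC).toEquiv, Subgroup.relIndex]
    ring
  -- the image of `C` on `W`
  let φ : C →* (AddMonoid.End W)ˣ :=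
    ((DistribMulAction.toAddMonoidEnd G W).comp C.subtype).toHomUnits
  have hφ : ∀ (c : C) (w : W), (φ c : AddMonoid.End W) w = (c : G) • w := fun _ _ => rfl
  have hker : φ.ker = M.subgroupOf C := by
    ext c
    rw [Subgroup.mem_subgroupOf, MonoidHom.mem_ker]
    constructor
    · intro hc
      have htriv : ∀ m : M, mk (MulAut.conjNormal (c : G) m) = mk m := fun m => by
        rw [← hactW, ← hφ, hc]; rfl
      have hmem : ∀ m : M, ⁅(c : G), (m : G)⁆ ∈ U := fun m => by
        have h1 := htriv m
        have h2 : mk ((MulAut.conjNormal (c : G) m) * m⁻¹) = 0 := by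
          show mk (MulAut.conjNormal (c : G) m) + -mk m = 0
          rw [h1, add_neg_cancel]
        rw [mk_eq_zero, Subgroup.coe_mul, MulAut.conjNormal_apply, InvMemClass.coe_inv] at h2
        exact h2
      let bc : M → R := fun m => ψ _ (hmem m)
      have hbc : ∀ a b : M, bc (a * b) = bc a * bc b := fun a b => by
        show ψ _ (hmem (a * b)) = ψ _ (hmem a) * ψ _ (hmem b)
        rw [← hψmul _ (hmem a) _ (hmem b)]
        refine Subtype.ext (congrArg (fun g : G => (op g : AddMonoid.End V)) ?_)
        calc ⁅(c : G), ((a * b : M) : G)⁆ =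
            ⁅(c : G), (a : G)⁆ * ((a : G) * ⁅(c : G), (b : G)⁆ * (a : G)⁻¹) := by
              push_cast
              rw [commutatorElement_def, commutatorElement_def, commutatorElement_def]; group
          _ = _ := by rw [hCu _ (hMC a.2) _ (hmem b), mul_inv_cancel_right]
      let χ : Multiplicative W →* R :=
        { toFun := fun y => Quotient.liftOn (Additive.toMul (Multiplicative.toAdd y)) bc (by
            intro a b hab
            replace hab := QuotientGroup.leftRel_apply.1 hab
            rw [Subgroup.mem_subgroupOf] at hab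
            rw [show b = a * (a⁻¹ * b) by group, hbc, show bc (a⁻¹ * b) = 1 from
              hψone _ (hmem (a⁻¹ * b))
                (commutatorElement_eq_one_iff_mul_comm.2 (hCu _ c.2 _ hab)), mul_one])
          map_one' := hψone _ (hmem 1) (commutatorElement_one_right _)
          map_mul' := fun a b => by
            obtain ⟨a', ha'⟩ := mk_surj (Multiplicative.toAdd a)
            obtain ⟨b', hb'⟩ := mk_surj (Multiplicative.toAdd b)
            show Quotient.liftOn (Additive.toMul (Multiplicative.toAdd a + Multiplicative.toAdd b))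
              bc _ = _
            simp only [← ha', ← hb']
            exact hbc a' b' }
      obtain ⟨w, hw⟩ := hpair.exists_repr χ
      obtain ⟨m0, rfl⟩ := mk_surj w
      have hcm : ((m0 : M) : G)⁻¹ * (c : G) ∈ U := by
        refine hD ⟨C.mul_mem (C.inv_mem (hMC m0.2)) c.2,
          Subgroup.mem_centralizer_iff.2 fun m hm => ?_⟩
        have h1 : bc ⟨m, hm⟩ = bK m0 ⟨m, hm⟩ := hw (mk ⟨m, hm⟩)
        have h2 : ⁅(c : G), m⁆ = ⁅(m0 : G), m⁆ := by
          refine FaithfulSMul.eq_of_smul_eq_smul (α := V) fun x => ?_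
          have := congrArg (· • x) h1
          simpa only [bc, bK, hψ] using this
        rw [commutatorElement_def, commutatorElement_def, mul_left_inj, mul_assoc, mul_assoc,
          ] at h2
        calc m * ((m0 : G)⁻¹ * c) = (m0 : G)⁻¹ * ((m0 : G) * (m * (m0 : G)⁻¹)) * c := by group
          _ = (m0 : G)⁻¹ * ((c : G) * (m * (c : G)⁻¹)) * c := by rw [h2]
          _ = (m0 : G)⁻¹ * c * m := by group
      have := M.mul_mem m0.2 (hUM hcm)
      rwa [mul_inv_cancel_left] at this
    · intro hc
      refine Units.ext (AddMonoidHom.ext fun w => ?_)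
      obtain ⟨m, rfl⟩ := mk_surj w
      show (c : G) • mk m = mk m
      rw [hactW]
      have h2 : mk ((MulAut.conjNormal (c : G) m) * m⁻¹) = 0 := by
        rw [mk_eq_zero, Subgroup.coe_mul, MulAut.conjNormal_apply, InvMemClass.coe_inv]
        exact hMcomm _ hc _ m.2
      exact add_neg_eq_zero.1 h2
  have hH : Nat.card φ.range = h := by
    rw [hh, Subgroup.relIndex, ← hker, Subgroup.index_ker]
  letI actH : DistribMulAction φ.range W :=
    DistribMulAction.compHom W ((Units.coeHom (AddMonoid.End W)).comp φ.range.subtype)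
  have hactH : ∀ (c : C) (w : W), (⟨φ c, c, rfl⟩ : φ.range) • w = (c : G) • w := fun _ _ => rfl
  haveI : FaithfulSMul φ.range W := ⟨fun {a b} hab =>
    Subtype.ext (Units.ext (AddMonoidHom.ext hab))⟩
  have hHodd : Odd (Nat.card φ.range) :=
    Odd.of_dvd_nat (odd_subgroup hodd C) (Subgroup.card_range_dvd φ)
  have hHcr : IsCR φ.range W := by
    intro Y hY
    have hYC : Invariant C W Y := fun c w hw => hY ⟨φ c, c, rfl⟩ w hw
    obtain ⟨Z, hZ, h1, h2⟩ := isCR_normal hpair.isCR C Y hYC
    refine ⟨Z, ?_, h1, h2⟩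
    rintro ⟨_, c, rfl⟩ w hw
    exact hZ c w hw
  have hWlt : Nat.card W < Nat.card V := by
    rw [hWe, hVQ]
    calc e * e ≤ d * d := Nat.mul_self_le_mul_self hed
      _ < 4 ^ d := sq_lt_four_pow d
      _ ≤ Q ^ d := Nat.pow_le_pow_left hQ4 d
  have hh4 : h ≤ e ^ 4 := by
    rw [← hH]
    refine (card_image_le (IH φ.range W hWlt hHodd hHcr)).trans (le_of_eq ?_)
    rw [hWe]; ring
  have hsmall : ∀ p n : ℕ, e * e = p ^ n → ∀ w : W, p • w = 0 := fun p n hpn =>
    hpair.elementary (hWe.trans hpn)
  have hexactH : ∀ (g : φ.range) (x y : W), β (g • x) (g • y) = β x y := by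
    rintro ⟨_, c, rfl⟩ x y
    exact hexact c c.2 x y
  have h3 : e = 3 → h ≤ 1 := fun h0 => by
    subst h0
    rw [← hH, image_nine hHodd hHcr (by rw [hWe]; norm_num) (hsmall 3 2 (by norm_num))]
  have h5 : e = 5 → h ≤ 15 := fun h0 => by
    subst h0
    rw [← hH]
    exact Nat.le_of_dvd (by norm_num)
      (image_twentyfive hHodd (by rw [hWe]; norm_num) (hsmall 5 2 (by norm_num)))
  have h7 : e = 7 → h ≤ 63 := fun h0 => by
    subst h0
    rw [← hH]
    exact Nat.le_of_dvd (by norm_num)
      (image_fortynine hHodd (by rw [hWe]; norm_num) (hsmall 7 2 (by norm_num)))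
  have h9 : e = 9 → h ≤ 5 := fun h0 => by
    subst h0
    rw [← hH]
    exact Nat.le_of_dvd (by norm_num)
      (image_eightyone hHodd hHcr (by rw [hWe]; norm_num) (hsmall 3 4 (by norm_num))
        hpair hexactH)
  have hbound := count_bound he_odd he3 (FiniteField.isPrimePow_card R |> fun hh => by
      rwa [hQ, Nat.card_eq_fintype_card]) hQ4 hp
    (show Q ^ e ≤ Nat.card V by rw [hVQ]; exact Nat.pow_le_pow_right (by omega) hed)
    hUcard hkle (Odd.of_dvd_nat hodd (Subgroup.index_dvd_card C)) hh4 h3 h5 h7 h9 hXeq hGeq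
  -- bounds on fixed points
  have hout : ∀ g ∉ C, Nat.card (fixedSub g : AddSubgroup V) ^ 2 ≤ Nat.card V := by
    intro g hg
    rw [sq, ← Nat.card_prod]
    refine Nat.card_le_card_of_injective
      (fun p : fixedSub g × fixedSub g => (p.1.1 : V) + θ • p.2.1) ?_
    have key : ∀ x y : V, g • x = x → g • y = y → x + θ • y = 0 → x = 0 ∧ y = 0 := by
      intro x y hx hy h0
      have h1 : g • (x + θ • y) = 0 := by rw [h0, smul_zero]
      rw [smul_add, hcj, hx, hy] at h1
      have h2 : (cj g θ - θ) • y = 0 := by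
        rw [sub_smul, sub_eq_zero]; exact add_left_cancel (h1.trans h0.symm)
      have hy0 : y = 0 :=
        (hsmul0 _ _ h2).resolve_left fun e => hg (hθC g (sub_eq_zero.1 e))
      rw [hy0, smul_zero, add_zero] at h0
      exact ⟨h0, hy0⟩
    rintro ⟨a, b⟩ ⟨a', b'⟩ hab
    simp only at hab
    obtain ⟨ha, hb⟩ := key (a.1 - a'.1) (b.1 - b'.1)
      (by rw [smul_sub, mem_fixedSub.1 a.2, mem_fixedSub.1 a'.2])
      (by rw [smul_sub, mem_fixedSub.1 b.2, mem_fixedSub.1 b'.2])
      (by rw [smul_sub]; calc _ = (a.1 + θ • b.1) - (a'.1 + θ • b'.1) := by abel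
            _ = 0 := by rw [hab, sub_self])
    exact Prod.ext (Subtype.ext (sub_eq_zero.1 ha)) (Subtype.ext (sub_eq_zero.1 hb))
  have hM3 : ∀ a ∈ M, a ∉ U → Nat.card (fixedSub a : AddSubgroup V) ^ 3 ≤ Nat.card V := by
    intro a ha haU
    obtain ⟨y, hy⟩ : ∃ y, β (mk ⟨a, ha⟩) y ≠ 1 := by
      by_contra hall
      push Not at hall
      exact haU ((mk_eq_zero ⟨a, ha⟩).1 (hpair.nondeg _ hall))
    obtain ⟨⟨m, hm⟩, rfl⟩ := mk_surj y
    rw [hβmk] at hy
    set ζ := bK ⟨a, ha⟩ ⟨m, hm⟩ with hζ
    have hz2 : ζ * ζ ≠ 1 := by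
      intro h1
      rw [hζ] at h1
      have h2 : ψ _ (U.mul_mem (hMcomm a ha m hm) (hMcomm a ha m hm)) = 1 := by
        rw [hψmul _ (hMcomm a ha m hm) _ (hMcomm a ha m hm)]; exact h1
      exact hy (hψone _ (hMcomm a ha m hm)
        (eq_one_of_sq hodd (by rw [sq]; exact hψinj _ (U.mul_mem (hMcomm a ha m hm) (hMcomm a ha m hm)) h2)))
    have hzne : ζ * ζ ≠ ζ := by
      intro h1
      refine hy ?_
      have h2 : ζ * bK ⟨m, hm⟩ ⟨a, ha⟩ = 1 := hswap _ _
      calc ζ = ζ * ζ * bK ⟨m, hm⟩ ⟨a, ha⟩ := by rw [mul_assoc, h2, mul_one]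
        _ = 1 := by rw [h1, h2]
    have hshift : ∀ (v : V) (z : R), a • v = z • v → a • (m • v) = (ζ * z) • (m • v) := by
      intro v z hv
      have h1 : a • m • v = ζ • (m • a • v) := by
        rw [hψ _ (hMcomm a ha m hm), smul_smul, smul_smul, smul_smul]
        congr 1
        rw [commutatorElement_def]; group
      rw [h1, hv, hClin m (hMC hm), ← mul_smul]
    calc Nat.card (fixedSub a : AddSubgroup V) ^ 3
        = Nat.card (↥(fixedSub a : AddSubgroup V) ×
            ↥(fixedSub a : AddSubgroup V) × ↥(fixedSub a : AddSubgroup V)) := by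
          rw [Nat.card_prod, Nat.card_prod]; ring
      _ ≤ Nat.card V := by
          refine Nat.card_le_card_of_injective
            (fun p => (p.1.1 : V) + m • p.2.1.1 + m • m • p.2.2.1) ?_
          have key : ∀ x y z : V, a • x = x → a • y = y → a • z = z →
              x + m • y + m • m • z = 0 → x = 0 ∧ y = 0 ∧ z = 0 := by
            intro x y z hx hy0 hz h0
            have ey : a • (m • y) = ζ • (m • y) := by
              simpa using hshift y 1 (by rw [one_smul]; exact hy0)
            have ez : a • (m • m • z) = (ζ * ζ) • (m • m • z) :=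
              hshift (m • z) ζ (by simpa using hshift z 1 (by rw [one_smul]; exact hz))
            have h1 : x + ζ • (m • y) + (ζ * ζ) • (m • m • z) = 0 := by
              rw [← ey, ← ez]
              nth_rewrite 1 [← hx]
              rw [← smul_add, ← smul_add, h0, smul_zero]
            have h2 : (ζ - 1) • (m • y) + (ζ * ζ - 1) • (m • m • z) = 0 := by
              calc _ = (x + ζ • (m • y) + (ζ * ζ) • (m • m • z)) -
                    (x + m • y + m • m • z) := by
                    rw [sub_smul, sub_smul, one_smul, one_smul]; abel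
                _ = 0 := by rw [h1, h0, sub_zero]
            have h3 : a • ((ζ - 1) • (m • y) + (ζ * ζ - 1) • (m • m • z)) = 0 := by
              rw [h2, smul_zero]
            rw [smul_add, hClin a (hMC ha), hClin a (hMC ha), ey, ez, smul_smul,
              smul_smul] at h3
            have h4 : ((ζ * ζ - 1) * (ζ * ζ - ζ)) • (m • m • z) = 0 := by
              calc _ = ((ζ - 1) * ζ) • (m • y) + ((ζ * ζ - 1) * (ζ * ζ)) • (m • m • z) -
                    ζ • ((ζ - 1) • (m • y) + (ζ * ζ - 1) • (m • m • z)) := by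
                    simp only [smul_add, mul_smul, sub_smul, smul_sub, one_smul]
                    abel
                _ = 0 := by rw [h3, h2, smul_zero, sub_zero]
            have hz0 : z = 0 := by
              refine (smul_eq_zero_iff_eq m).1 ((smul_eq_zero_iff_eq m).1 ?_)
              exact (hsmul0 _ _ h4).resolve_left fun e => by
                rcases mul_eq_zero.1 e with e | e
                · exact hz2 (sub_eq_zero.1 e)
                · exact hzne (sub_eq_zero.1 e)
            subst hz0
            simp only [smul_zero, add_zero] at h0 h2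
            have hy1 : y = 0 := (smul_eq_zero_iff_eq m).1
              ((hsmul0 _ _ h2).resolve_left fun e => hy (sub_eq_zero.1 e))
            subst hy1
            simp only [smul_zero, add_zero] at h0
            exact ⟨h0, rfl, rfl⟩
          rintro ⟨p1, p2, p3⟩ ⟨q1, q2, q3⟩ hpq
          simp only at hpq
          obtain ⟨h1, h2, h3⟩ := key (p1.1 - q1.1) (p2.1 - q2.1) (p3.1 - q3.1)
            (by rw [smul_sub, mem_fixedSub.1 p1.2, mem_fixedSub.1 q1.2])
            (by rw [smul_sub, mem_fixedSub.1 p2.2, mem_fixedSub.1 q2.2])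
            (by rw [smul_sub, mem_fixedSub.1 p3.2, mem_fixedSub.1 q3.2])
            (by simp only [smul_sub]
                calc _ = (p1.1 + m • p2.1 + m • m • p3.1) - (q1.1 + m • q2.1 + m • m • q3.1) := by
                      abel
                  _ = 0 := by rw [hpq, sub_self])
          exact Prod.ext (Subtype.ext (sub_eq_zero.1 h1))
            (Prod.ext (Subtype.ext (sub_eq_zero.1 h2)) (Subtype.ext (sub_eq_zero.1 h3)))
  have hC3 : ∀ a ∈ C, a ∉ U → Nat.card (fixedSub a : AddSubgroup V) ^ 3 ≤ Nat.card V ^ 2 := by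
    intro a ha haU
    by_cases haM : a ∈ M
    · exact (hM3 a haM haU).trans (Nat.le_self_pow (by norm_num) _)
    obtain ⟨⟨m, hm⟩, hmU⟩ : ∃ m : M, ⁅a, (m : G)⁆ ∉ U := by
      by_contra hall
      push Not at hall
      have h1 : (⟨a, ha⟩ : C) ∈ φ.ker := by
        rw [MonoidHom.mem_ker]
        refine Units.ext (AddMonoidHom.ext fun w => ?_)
        obtain ⟨m, rfl⟩ := mk_surj w
        show a • mk m = mk m
        rw [hactW]
        have h2 : mk ((MulAut.conjNormal a m) * m⁻¹) = 0 := by
          rw [mk_eq_zero, Subgroup.coe_mul, MulAut.conjNormal_apply, InvMemClass.coe_inv]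
          exact hall m
        exact add_neg_eq_zero.1 h2
      rw [hker, Subgroup.mem_subgroupOf] at h1
      exact haM h1
    have hyM : ⁅a, m⁆ ∈ M := by
      rw [commutatorElement_def]
      exact M.mul_mem (Subgroup.Normal.conj_mem hMn m hm a) (M.inv_mem hm)
    have hinter : fixedSub a ⊓ fixedSub (m * a * m⁻¹) ≤ (fixedSub ⁅a, m⁆ : AddSubgroup V) := by
      rintro v ⟨h1, h2⟩
      replace h1 : a • v = v := h1
      replace h2 : (m * a * m⁻¹) • v = v := h2
      rw [mem_fixedSub, show ⁅a, m⁆ = a * (m * a * m⁻¹)⁻¹ by rw [commutatorElement_def]; group,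
        mul_smul, inv_smul_eq_iff.2 h2.symm, h1]
    have h2 := card_mul_le_of_inter _ _ _ hinter
    rw [card_fixedSub_conj, ← sq] at h2
    have h3 := hM3 _ hyM hmU
    have h4 : (Nat.card (fixedSub a : AddSubgroup V) ^ 3) ^ 2 ≤ (Nat.card V ^ 2) ^ 2 := by
      calc _ = (Nat.card (fixedSub a : AddSubgroup V) ^ 2) ^ 3 := by ring
        _ ≤ (Nat.card (fixedSub ⁅a, m⁆ : AddSubgroup V) * Nat.card V) ^ 3 :=
            Nat.pow_le_pow_left h2 3
        _ = Nat.card (fixedSub ⁅a, m⁆ : AddSubgroup V) ^ 3 * Nat.card V ^ 3 := mul_pow _ _ _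
        _ ≤ Nat.card V * Nat.card V ^ 3 := Nat.mul_le_mul_right _ h3
        _ = _ := by ring
    exact (Nat.pow_le_pow_iff_left (by norm_num)).1 h4
  have hcoset : ∀ a ∈ C, ∀ b ∈ C, a⁻¹ * b ∈ U → a ≠ b →
      (fixedSub a : AddSubgroup V) ⊓ fixedSub b = ⊥ := by
    intro a _ b _ hab hne
    refine (AddSubgroup.eq_bot_iff_forall _).2 fun v ⟨h1, h2⟩ => ?_
    refine (AddSubgroup.eq_bot_iff_forall _).1
      (hfixU _ hab fun e => hne (inv_mul_eq_one.1 e)) v ?_
    replace h1 : a • v = v := h1
    replace h2 : b • v = v := h2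
    rw [mem_fixedSub, mul_smul, h2, inv_smul_eq_iff, h1]
  -- conclusion
  refine hasPair_of_sum U hfixU ?_
  have hV2 : 2 ≤ Nat.card V := Finite.one_lt_card
  rcases hbound with ⟨he, hN⟩ | ⟨hX3, hN⟩
  · have hall : ∀ g ∈ univ.filter (fun g => g ∉ U),
        Nat.card (fixedSub g : AddSubgroup V) ^ 2 ≤ Nat.card V := by
      intro g hg
      rw [mem_filter] at hg
      by_cases hgC : g ∈ C
      · have hgM : g ∈ M := by
          have hrel : M.relIndex C = 1 := le_antisymm (h3 he) (Nat.one_le_iff_ne_zero.2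
            Subgroup.index_ne_zero_of_finite)
          exact Subgroup.relIndex_eq_one.1 hrel hgC
        refine le_trans ?_ (hM3 g hgM hg.2)
        exact Nat.pow_le_pow_right Nat.card_pos (by norm_num)
      · exact hout g hgC
    have := Finset.sum_le_card_nsmul _ _ _ hall
    rw [smul_eq_mul] at this
    have hc : (univ.filter (fun g => g ∉ U)).card ≤ Nat.card G := by
      rw [Nat.card_eq_fintype_card]; exact card_le_univ _
    have h1 := this.trans (Nat.mul_le_mul_right _ hc)
    have h2 : (Nat.card G + 1) * Nat.card V ≤ Nat.card V * Nat.card V := Nat.mul_le_mul_right _ hN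
    rw [Nat.succ_mul] at h2
    rw [sq (Nat.card V)]
    omega
  · set B := (univ.filter (fun a => a ∈ C ∧ a ∉ U)).sup
      (fun a => Nat.card (fixedSub a : AddSubgroup V) ^ 2) with hB
    have hB3 : B ^ 3 ≤ Nat.card V ^ 4 := by
      rcases (univ.filter (fun a => a ∈ C ∧ a ∉ U)).eq_empty_or_nonempty with h0 | h0
      · rw [hB, h0, Finset.sup_empty]
        simp
      · obtain ⟨a, ha, hmax⟩ := Finset.exists_mem_eq_sup _ h0
          (fun a => Nat.card (fixedSub a : AddSubgroup V) ^ 2)
        rw [mem_filter] at ha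
        rw [hB, hmax]
        calc _ = (Nat.card (fixedSub a : AddSubgroup V) ^ 3) ^ 2 := by ring
          _ ≤ (Nat.card V ^ 2) ^ 2 := Nat.pow_le_pow_left (hC3 a ha.2.1 ha.2.2) 2
          _ = _ := by ring
    have hsum := sum_le_count (V := V) U C hUC hout hcoset B (fun a h1 h2 =>
      Finset.le_sup (f := fun a => Nat.card (fixedSub a : AddSubgroup V) ^ 2) (by simp [h1, h2]))
    have hXB : 2 * (X * B) ≤ Nat.card V ^ 2 := by
      refine (Nat.pow_le_pow_iff_left (n := 3) (by norm_num)).1 ?_
      calc (2 * (X * B)) ^ 3 = (2 * X) ^ 3 * B ^ 3 := by ring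
        _ ≤ Nat.card V ^ 2 * Nat.card V ^ 4 := Nat.mul_le_mul hX3 hB3
        _ = _ := by ring
    have h2 : (2 * Nat.card G + 2) * Nat.card V ≤ Nat.card V * Nat.card V :=
      Nat.mul_le_mul_right _ hN
    rw [sq (Nat.card V)] at hXB ⊢
    rw [Nat.add_mul, Nat.mul_assoc] at h2
    rw [← hX] at hsum
    omega

end CfsgLib.Perm.OddBase
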