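import Cfsg.Agent.Lib.Perm.OddBase.Blocks

/-!
# Bases of size two: the ring spanned by an abelian normal subgroup
-/

namespace CfsgLib.Perm.OddBase

universe u

/-- In a finite monoid some positive power of each element is idempotent. -/
theorem exists_pow_idem {M : Type*} [Monoid M] [Finite M] (r : M) :
    ∃ n, 0 < n ∧ r ^ n * r ^ n = r ^ n := by
  obtain ⟨i, j, hij, h⟩ : ∃ i j : ℕ, i < j ∧ r ^ i = r ^ j := by
    obtain ⟨a, b, hab, h⟩ := Finite.exists_ne_map_eq_of_infinite fun n : ℕ => r ^ n
    rcases lt_or_gt_of_ne hab with hl | hl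
    · exact ⟨a, b, hl, h⟩
    · exact ⟨b, a, hl, h.symm⟩
  have step : ∀ n, i ≤ n → ∀ c, r ^ (n + c * (j - i)) = r ^ n := by
    intro n hn c
    induction c with
    | zero => simp
    | succ c ih =>
      have e1 : n + (c + 1) * (j - i) = (n + c * (j - i) - i) + j := by
        rw [Nat.succ_mul]; omega
      have e2 : n + c * (j - i) = (n + c * (j - i) - i) + i := by omega
      rw [e1, pow_add, ← h, ← pow_add, ← e2, ih]
  refine ⟨(i + 1) * (j - i), Nat.mul_pos (Nat.succ_pos _) (Nat.sub_pos_of_lt hij), ?_⟩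
  rw [← pow_add]
  exact step _ (le_trans (Nat.le_succ i) (Nat.le_mul_of_pos_right _ (Nat.sub_pos_of_lt hij))) _

variable {G V : Type u} [Group G] [AddCommGroup V] [DistribMulAction G V]

/-- The operator attached to a group element. -/
def op (g : G) : AddMonoid.End V := DistribMulAction.toAddMonoidEnd G V g

@[simp] theorem op_apply (g : G) (x : V) : op g x = g • x := rfl

/-- The subring spanned by a subgroup. -/
def spanRing (N : Subgroup G) : Subring (AddMonoid.End V) :=
  Subring.closure ((fun g : G => (op g : AddMonoid.End V)) '' (N : Set G))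

theorem op_mem_spanRing {N : Subgroup G} {g : G} (hg : g ∈ N) :
    (op g : AddMonoid.End V) ∈ spanRing N :=
  Subring.subset_closure ⟨g, hg, rfl⟩

theorem spanRing_comm {N : Subgroup G} (hN : ∀ a ∈ N, ∀ b ∈ N, a * b = b * a)
    {r s : AddMonoid.End V} (hr : r ∈ spanRing N) (hs : s ∈ spanRing N) : r * s = s * r := by
  have h1 : ∀ a ∈ N, ∀ t ∈ spanRing (V := V) N, op a * t = t * op a := by
    intro a ha t ht
    induction ht using Subring.closure_induction with
    | mem x hx =>
      obtain ⟨b, hb, rfl⟩ := hx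
      refine AddMonoidHom.ext fun x => ?_
      show a • b • x = b • a • x
      rw [smul_smul, smul_smul, hN a ha b hb]
    | zero => simp
    | one => simp
    | add x y _ _ hx hy => rw [mul_add, add_mul, hx, hy]
    | neg x _ hx => rw [mul_neg, neg_mul, hx]
    | mul x y _ _ hx hy => rw [← mul_assoc, hx, mul_assoc, hy, ← mul_assoc]
  induction hr using Subring.closure_induction with
  | mem x hx => obtain ⟨a, ha, rfl⟩ := hx; exact h1 a ha s hs
  | zero => simp
  | one => simp
  | add x y _ _ hx hy => rw [mul_add, add_mul, hx, hy]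
  | neg x _ hx => rw [mul_neg, neg_mul, hx]
  | mul x y _ _ hx hy => rw [mul_assoc, hy, ← mul_assoc, hx, mul_assoc]

theorem spanRing_conj {N : Subgroup G} [N.Normal] (g : G) {r : AddMonoid.End V}
    (hr : r ∈ spanRing N) : op g * r * op g⁻¹ ∈ spanRing (V := V) N := by
  induction hr using Subring.closure_induction with
  | mem x hx =>
    obtain ⟨a, ha, rfl⟩ := hx
    have : (op g : AddMonoid.End V) * op a * op g⁻¹ = op (g * a * g⁻¹) := by
      refine AddMonoidHom.ext fun x => ?_
      show g • a • g⁻¹ • x = (g * a * g⁻¹) • x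
      rw [mul_smul, mul_smul]
    rw [this]
    exact op_mem_spanRing (Subgroup.Normal.conj_mem inferInstance a ha g)
  | zero => simp
  | one =>
    have : (op g : AddMonoid.End V) * op g⁻¹ = 1 := by
      refine AddMonoidHom.ext fun x => ?_
      show g • g⁻¹ • x = x
      rw [smul_inv_smul]
    rw [mul_one, this]; exact one_mem _
  | add x y _ _ hx hy => rw [mul_add, add_mul]; exact add_mem hx hy
  | neg x _ hx => rw [mul_neg, neg_mul]; exact neg_mem hx
  | mul x y _ _ hx hy =>
    have : (op g : AddMonoid.End V) * (x * y) * op g⁻¹ =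
        (op g * x * op g⁻¹) * (op g * y * op g⁻¹) := by
      refine AddMonoidHom.ext fun z => ?_
      show g • x (y (g⁻¹ • z)) = g • x (g⁻¹ • g • y (g⁻¹ • z))
      rw [inv_smul_smul]
    rw [this]; exact mul_mem hx hy

/-- If the ring spanned by an abelian normal subgroup is not a field, there is a system of at
least two blocks. -/
theorem exists_blocks_of_not_field [Finite V]
    (hirr : IsIrred G V) (N : Subgroup G) [N.Normal]
    (hN : ∀ a ∈ N, ∀ b ∈ N, a * b = b * a)
    (h : ¬ ∀ r : AddMonoid.End V, r ∈ spanRing N → r ≠ 0 → Function.Injective r) :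
    ∃ (ι : Type u) (_ : Fintype ι) (_ : MulAction G ι) (π : ι → AddMonoid.End V),
      (∀ (g : G) (i : ι) (x : V), π (g • i) (g • x) = g • π i x) ∧
      (∀ i x, π i (π i x) = π i x) ∧ (∀ i j, i ≠ j → ∀ x, π i (π j x) = 0) ∧
      (∀ x, ∑ i, π i x = x) ∧ (∀ i, ∃ x, π i x ≠ 0) ∧ ∃ i j : ι, i ≠ j := by
  classical
  haveI : Finite (AddMonoid.End V) :=
    Finite.of_injective (β := V → V) _ DFunLike.coe_injective
  simp only [not_forall] at h
  obtain ⟨r, hr, hr0, hrinj⟩ := h
  set R := spanRing (V := V) N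
  -- nilpotents of the ring vanish
  have hred : ∀ j ∈ R, j * j = 0 → j = 0 := by
    intro j hj hjj
    by_contra hj0
    set S : Set (AddMonoid.End V) := {a | a ∈ R ∧ a * a = 0}
    have hkey : ∀ F : Finset (AddMonoid.End V), (∀ a ∈ F, a ∈ S) →
        ∀ v : V, v ≠ 0 → ∃ w : V, w ≠ 0 ∧ ∀ a ∈ F, a w = 0 := by
      intro F
      induction F using Finset.induction_on with
      | empty => exact fun _ v hv => ⟨v, hv, by simp⟩
      | insert a F ha ih =>
        intro hF v hv
        obtain ⟨w, hw, hwF⟩ := ih (fun b hb => hF b (Finset.mem_insert_of_mem hb)) v hv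
        by_cases haw : a w = 0
        · exact ⟨w, hw, fun b hb => by
            rcases Finset.mem_insert.1 hb with rfl | hb
            · exact haw
            · exact hwF b hb⟩
        · refine ⟨a w, haw, fun b hb => ?_⟩
          rcases Finset.mem_insert.1 hb with rfl | hb
          · have h2 := (hF b (Finset.mem_insert_self b F)).2
            exact DFunLike.congr_fun h2 w
          · have := spanRing_comm hN (hF b (Finset.mem_insert_of_mem hb)).1
              (hF a (Finset.mem_insert_self a F)).1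
            have h3 : (b * a) w = (a * b) w := by rw [this]
            exact h3.trans (show a (b w) = 0 by rw [hwF b hb, map_zero])
    set W : AddSubgroup V :=
      { carrier := {v | ∀ a ∈ S, a v = 0}
        zero_mem' := fun a _ => map_zero a
        add_mem' := fun {p q} hp hq a ha => by rw [map_add, hp a ha, hq a ha, add_zero]
        neg_mem' := fun {p} hp a ha => by rw [map_neg, hp a ha, neg_zero] }
    have hW : Invariant G V W := by
      intro g v hv a ha
      have hmem : op g⁻¹ * a * op g⁻¹⁻¹ ∈ S := by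
        refine ⟨spanRing_conj g⁻¹ ha.1, ?_⟩
        refine AddMonoidHom.ext fun x => ?_
        show g⁻¹ • a (g⁻¹⁻¹ • g⁻¹ • a (g⁻¹⁻¹ • x)) = 0
        rw [inv_inv, smul_inv_smul]
        have h2 := DFunLike.congr_fun ha.2 (g • x)
        change a (a (g • x)) = 0 at h2
        rw [h2, smul_zero]
      have h2 := hv _ hmem
      change g⁻¹ • a (g⁻¹⁻¹ • v) = 0 at h2
      rw [inv_inv, inv_smul_eq_iff, smul_zero] at h2
      exact h2
    obtain ⟨v, hv⟩ : ∃ v, j v ≠ 0 := by
      by_contra hall
      push Not at hall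
      exact hj0 (AddMonoidHom.ext hall)
    rcases hirr W hW with hbot | htop
    · obtain ⟨w, hw, hwS⟩ := hkey (Set.toFinite S).toFinset (fun a ha => by simpa using ha) v
        (fun e => hv (by rw [e, map_zero]))
      have : w ∈ W := fun a ha => hwS a (by simpa using ha)
      rw [hbot, AddSubgroup.mem_bot] at this
      exact hw this
    · exact hv ((show v ∈ W by rw [htop]; trivial) j ⟨hj, hjj⟩)
  have hnil : ∀ n, 0 < n → ∀ s ∈ R, s ^ n = 0 → s = 0 := by
    intro n
    induction n using Nat.strong_induction_on with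
    | _ n ih =>
      intro hn s hs hsn
      rcases Nat.lt_or_ge 1 n with h1 | h1
      · have : s ^ ((n + 1) / 2) = 0 := by
          refine hred _ (pow_mem hs _) ?_
          rw [← pow_add, show (n + 1) / 2 + (n + 1) / 2 = n + ((n + 1) / 2 + (n + 1) / 2 - n) by
            omega, pow_add, hsn, zero_mul]
        exact ih _ (by omega) (by omega) s hs this
      · have : n = 1 := by omega
        rwa [this, pow_one] at hsn
  -- a nontrivial idempotent
  obtain ⟨n, hn, hidem⟩ := exists_pow_idem r
  have he1 : r ^ n ≠ 1 := by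
    intro e
    apply hrinj
    intro a b hab
    have ha : ∀ x, (r ^ (n - 1)) (r x) = x := fun x => by
      have e3 : (r ^ (n - 1) * r) x = (1 : AddMonoid.End V) x := by
        rw [← pow_succ, Nat.sub_add_cancel hn, e]
      exact e3
    rw [← ha a, ← ha b, hab]
  have he0 : r ^ n ≠ 0 := fun e => hr0 (hnil n hn r hr e)
  -- primitive idempotents
  let Id : Set (AddMonoid.End V) := {e | e ∈ R ∧ e * e = e}
  let below : AddMonoid.End V → Set (AddMonoid.End V) := fun e =>
    {f | f ∈ Id ∧ f ≠ 0 ∧ e * f = f}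
  let Prim : Set (AddMonoid.End V) :=
    {e | e ∈ Id ∧ e ≠ 0 ∧ ∀ f ∈ Id, f ≠ 0 → e * f = f → f = e}
  have hexists : ∀ e ∈ Id, e ≠ 0 → ∃ p ∈ Prim, e * p = p := by
    intro e he he0
    obtain ⟨p, ⟨hp, hp0, hpe⟩, hmin⟩ := Set.exists_min_image (below e)
      (fun f => (below f).ncard) (Set.toFinite _) ⟨e, he, he0, he.2⟩
    refine ⟨p, ⟨hp, hp0, fun f hf hf0 hpf => ?_⟩, hpe⟩
    by_contra hne
    have hfe : f ∈ below e := ⟨hf, hf0, by rw [← hpf, ← mul_assoc, hpe]⟩
    have hsub : below f ⊂ below p := by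
      refine (Set.ssubset_iff_of_subset ?_).2 ⟨p, ⟨hp, hp0, hp.2⟩, ?_⟩
      · rintro x ⟨hx, hx0, hfx⟩
        exact ⟨hx, hx0, by rw [← hfx, ← mul_assoc, hpf]⟩
      · rintro ⟨_, _, hfp⟩
        exact hne (by rw [← hpf, spanRing_comm hN hp.1 hf.1, hfp])
    have := Set.ncard_lt_ncard hsub (Set.toFinite _)
    have := hmin f hfe
    omega
  have horth : ∀ e ∈ Prim, ∀ f ∈ Prim, e ≠ f → e * f = 0 := by
    intro e he f hf hne
    by_contra h0
    have hcomm := spanRing_comm hN he.1.1 hf.1.1
    have hef : e * f ∈ Id := ⟨mul_mem he.1.1 hf.1.1, by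
      calc e * f * (e * f) = e * (f * e) * f := by simp only [mul_assoc]
        _ = e * (e * f) * f := by rw [hcomm]
        _ = e * e * (f * f) := by simp only [mul_assoc]
        _ = e * f := by rw [he.1.2, hf.1.2]⟩
    have h1 : e * f = e := he.2.2 _ hef h0 (by rw [← mul_assoc, he.1.2])
    have h2 : e * f = f := hf.2.2 _ hef h0 (by
      rw [← mul_assoc, ← hcomm, mul_assoc, hf.1.2])
    exact hne (h1.symm.trans h2)
  have hconj : ∀ (g : G) (e : AddMonoid.End V), e ∈ Id → op g * e * op g⁻¹ ∈ Id := by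
    intro g e he
    refine ⟨spanRing_conj g he.1, AddMonoidHom.ext fun x => ?_⟩
    show g • e (g⁻¹ • g • e (g⁻¹ • x)) = g • e (g⁻¹ • x)
    rw [inv_smul_smul]
    exact congrArg _ (DFunLike.congr_fun he.2 _)
  have hconjP : ∀ (g : G) (e : AddMonoid.End V), e ∈ Prim → op g * e * op g⁻¹ ∈ Prim := by
    intro g e he
    refine ⟨hconj g e he.1, fun h0 => he.2.1 (AddMonoidHom.ext fun x => ?_), fun f hf hf0 hef => ?_⟩
    · have := DFunLike.congr_fun h0 (g • x)
      change g • e (g⁻¹ • g • x) = 0 at this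
      rw [inv_smul_smul, smul_eq_iff_eq_inv_smul, smul_zero] at this
      exact this
    · have hf' : op g⁻¹ * f * op g⁻¹⁻¹ = e := by
        refine he.2.2 _ (hconj _ f hf) ?_ (AddMonoidHom.ext fun x => ?_)
        · intro h0
          refine hf0 (AddMonoidHom.ext fun x => ?_)
          have := DFunLike.congr_fun h0 (g⁻¹ • x)
          change g⁻¹ • f (g⁻¹⁻¹ • g⁻¹ • x) = 0 at this
          rw [inv_inv, smul_inv_smul, inv_smul_eq_iff, smul_zero] at this
          exact this
        · show e (g⁻¹ • f (g⁻¹⁻¹ • x)) = g⁻¹ • f (g⁻¹⁻¹ • x)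
          have h2 := DFunLike.congr_fun hef (g⁻¹⁻¹ • x)
          change g • e (g⁻¹ • f (g⁻¹⁻¹ • x)) = f (g⁻¹⁻¹ • x) at h2
          exact eq_inv_smul_iff.2 h2
      rw [← hf']
      refine AddMonoidHom.ext fun x => ?_
      show f x = g • g⁻¹ • f (g⁻¹⁻¹ • g⁻¹ • x)
      rw [inv_inv, smul_inv_smul, smul_inv_smul]
  haveI : Fintype Prim := Fintype.ofFinite _
  have hsum : ∀ x, ∑ p : Prim, (p : AddMonoid.End V) x = x := by
    set s : AddMonoid.End V := ∑ p : Prim, (p : AddMonoid.End V) with hsdef
    have hsR : s ∈ R := sum_mem fun p _ => p.2.1.1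
    have hps : ∀ p : Prim, (p : AddMonoid.End V) * s = p := by
      intro p
      rw [hsdef, Finset.mul_sum, Finset.sum_eq_single p]
      · exact p.2.1.2
      · exact fun q _ hq => horth _ p.2 _ q.2 fun e => hq (Subtype.ext e).symm
      · simp
    have hss : s * s = s := by
      conv_lhs => arg 1; rw [hsdef]
      rw [Finset.sum_mul, hsdef]
      exact Finset.sum_congr rfl fun p _ => hps p
    have hs1 : s = 1 := by
      by_contra hne
      have hc : 1 - s ∈ Id := ⟨sub_mem (one_mem _) hsR, by
        rw [sub_mul, one_mul, mul_sub, mul_one, hss, sub_self, sub_zero]⟩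
      obtain ⟨p, hp, hpp⟩ := hexists _ hc (sub_ne_zero.2 (Ne.symm hne))
      refine hp.2.1 ?_
      rw [← hpp, spanRing_comm hN hc.1 hp.1.1, mul_sub, mul_one, hps ⟨p, hp⟩, sub_self]
    intro x
    have := DFunLike.congr_fun hs1 x
    change s x = x at this
    rw [hsdef] at this
    exact Eq.trans (AddMonoidHom.finset_sum_apply _ _ x).symm this
  letI : MulAction G Prim :=
    { smul := fun g e => ⟨op g * e.1 * op g⁻¹, hconjP g _ e.2⟩
      one_smul := fun e => Subtype.ext <| AddMonoidHom.ext fun x => by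
        show (1 : G) • e.1 ((1 : G)⁻¹ • x) = e.1 x
        simp
      mul_smul := fun g k e => Subtype.ext <| AddMonoidHom.ext fun x => by
        show (g * k) • e.1 ((g * k)⁻¹ • x) = g • k • e.1 (k⁻¹ • g⁻¹ • x)
        rw [mul_inv_rev, mul_smul, mul_smul] }
  refine ⟨Prim, inferInstance, inferInstance, fun p => p.1, fun g p x => ?_,
    fun p x => DFunLike.congr_fun p.2.1.2 x,
    fun p q hpq x => DFunLike.congr_fun (horth _ p.2 _ q.2 fun e => hpq (Subtype.ext e)) x,
    hsum, fun p => ?_, ?_⟩
  · show g • p.1 (g⁻¹ • g • x) = g • p.1 x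
    rw [inv_smul_smul]
  · by_contra hall
    push Not at hall
    exact p.2.2.1 (AddMonoidHom.ext hall)
  · obtain ⟨p, hp, -⟩ := hexists _ ⟨pow_mem hr n, hidem⟩ he0
    by_contra hall
    push Not at hall
    have hp1 : p = 1 := by
      refine AddMonoidHom.ext fun x => ?_
      have h2 := hsum x
      rw [Finset.sum_eq_single (⟨p, hp⟩ : Prim) (fun q _ hq => (hq (hall q ⟨p, hp⟩)).elim)
        (by simp)] at h2
      exact h2
    subst hp1
    exact he1 (hp.2.2 _ ⟨pow_mem hr n, hidem⟩ he0 (one_mul _))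

/-- If the ring spanned by an abelian normal subgroup is not a field, we get a pair from blocks. -/
theorem hasPair_of_not_field [Finite G] [Finite V] (hodd : Odd (Nat.card G))
    (IH : PairBelow.{u} (Nat.card V)) (IHs : SubsetBelow.{u} (Nat.card V))
    (hirr : IsIrred G V) (N : Subgroup G) [N.Normal]
    (hN : ∀ a ∈ N, ∀ b ∈ N, a * b = b * a)
    (h : ¬ ∀ r : AddMonoid.End V, r ∈ spanRing N → r ≠ 0 → Function.Injective r) :
    HasPair G V := by
  obtain ⟨ι, hι, hact, π, h1, h2, h3, h4, h5, h6⟩ := exists_blocks_of_not_field hirr N hN h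
  exact hasPair_of_blocks hodd IH IHs hirr π h1 h2 h3 h4 h5 h6

end CfsgLib.Perm.OddBase
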